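import Cfsg.Agent.Lib.Small.ChevAut.Exponent
import Cfsg.Agent.Lib.Small.PSLn.Out

/-!
The stabiliser of U and V in the automorphism group, its action on the nodes, and the order and structure
of the outer automorphism group.
-/

set_option autoImplicit false
set_option synthInstance.maxHeartbeats 400000
set_option linter.style.haveILetI false

namespace Cfsg.Agent.Small.ChevAut

open Cfsg Cfsg.Lie Cfsg.Agent.Lie
open scoped MatrixGroups commutatorElement

variable {D : ChevalleyDatum} {F : Type*} [Field F] [Finite F] (A : AutData D)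

theorem AutData.exists_nf {θ : MulAut ↥(D.group F)} (hθ : θ ∈ Std D F) : ∃ π c φ, NF A.hF θ π c φ :=
  exists_NF A.hF A.hpm hθ

/-- The action on the nodes. -/
noncomputable def AutData.psi : ↥(Std D F) →* Equiv.Perm (Fin D.rank) :=
  MonoidHom.mk' (fun θ => (A.exists_nf θ.2).choose) fun θ θ' => by
    obtain ⟨c, φ, h⟩ := (A.exists_nf θ.2).choose_spec
    obtain ⟨c', φ', h'⟩ := (A.exists_nf θ'.2).choose_spec
    obtain ⟨c'', φ'', h''⟩ := (A.exists_nf (θ * θ').2).choose_spec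
    exact (NF.unique A.hF h'' (h.mul A.hF h')).1

theorem AutData.psi_nf (θ : ↥(Std D F)) : ∃ c φ, NF A.hF θ.1 (A.psi θ) c φ :=
  (A.exists_nf θ.2).choose_spec

theorem AutData.psi_eq {θ : ↥(Std D F)} {π : Equiv.Perm (Fin D.rank)} {c : Fin D.rank → Fˣ}
    {φ : Fin D.rank → RingAut F} (h : NF A.hF θ.1 π c φ) : A.psi θ = π := by
  obtain ⟨c', φ', h'⟩ := A.psi_nf θ
  exact (NF.unique A.hF h' h).1

theorem AutData.psi_apply_eq {θ : ↥(Std D F)} {i : Fin D.rank} {j : ℕ} (hj : j < D.rank) {u : F}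
    (h : θ.1 (xG A.hF (D.simple i.val) 1) = xG A.hF (D.simple j) u) : (A.psi θ i).val = j := by
  obtain ⟨c, φ, hn⟩ := A.psi_nf θ
  have e := xG_root_inj A.hF (A.hF.simple_lt _ (A.psi θ i).isLt) (A.hF.simple_lt j hj) (by simp)
    ((hn i 1).1.symm.trans h)
  exact congrArg Fin.val (simple_inj A.hF (i := A.psi θ i) (j := ⟨j, hj⟩) e)

theorem AutData.df_NF (c : Fin D.rank → Fˣ) (σ : RingAut F) :
    NF A.hF (A.dAut c * A.fAut σ) 1 c (fun _ => σ) := by
  have h := (A.dAut_NF c).mul A.hF (A.fAut_NF σ)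
  simpa using h

/-- The automorphism attached to a character and a field automorphism. -/
noncomputable def AutData.df (c : Fin D.rank → Fˣ) (σ : RingAut F) : ↥(Std D F) :=
  ⟨A.dAut c * A.fAut σ, mul_mem (A.dAut_mem_Std c) (A.fAut_mem_Std σ)⟩

theorem AutData.mem_psi_ker {θ : ↥(Std D F)} : θ ∈ (A.psi (F := F)).ker ↔ ∃ c σ, θ = A.df c σ := by
  constructor
  · intro h
    obtain ⟨c, φ, hn⟩ := A.psi_nf θ
    rw [MonoidHom.mem_ker] at h
    rw [h] at hn
    obtain ⟨σ, hσ, -⟩ := hn.common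
    refine ⟨c, σ, Subtype.ext (NF.ext A.hF hn ?_)⟩
    have e : φ = fun _ => σ := funext fun i => RingEquiv.ext fun t => by
      rw [hσ i t, Equiv.Perm.one_apply, graphExp_self, pow_one]
    rw [e]
    exact A.df_NF c σ
  · rintro ⟨c, σ, rfl⟩
    exact MonoidHom.mem_ker.2 (A.psi_eq (θ := A.df c σ) (A.df_NF c σ))

theorem AutData.card_psi_ker :
    Nat.card (A.psi (F := F)).ker = (Nat.card F - 1) ^ D.rank * Nat.card (RingAut F) := by
  let e : ((Fin D.rank → Fˣ) × RingAut F) → (A.psi (F := F)).ker := fun p =>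
    ⟨A.df p.1 p.2, A.mem_psi_ker.2 ⟨p.1, p.2, rfl⟩⟩
  have hr := rank_pos_of_mem A.mem
  have he : Function.Bijective e := by
    refine ⟨?_, ?_⟩
    · rintro ⟨c, σ⟩ ⟨c', σ'⟩ h
      have h1 := A.df_NF c σ
      rw [show A.dAut c * A.fAut σ = A.dAut c' * A.fAut σ' from
        congrArg (fun z : (A.psi (F := F)).ker => z.1.1) h] at h1
      obtain ⟨-, hc, hσ⟩ := NF.unique A.hF h1 (A.df_NF c' σ')
      exact Prod.ext hc (congrFun hσ ⟨0, hr⟩)
    · rintro ⟨θ, hθ⟩
      obtain ⟨c, σ, rfl⟩ := A.mem_psi_ker.1 hθ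
      exact ⟨(c, σ), rfl⟩
  rw [← Nat.card_eq_of_bijective e he, Nat.card_prod, Nat.card_fun, Nat.card_units, Nat.card_fin]

variable (D F) in
/-- The map onto the outer automorphism group. -/
def outMap : ↥(Std D F) →* Cfsg.Out ↥(D.group F) :=
  (QuotientGroup.mk' (Cfsg.Inn ↥(D.group F))).comp (Std D F).subtype

include A in
theorem AutData.outMap_surjective : Function.Surjective (outMap D F) := by
  intro y
  obtain ⟨θ, rfl⟩ := QuotientGroup.mk'_surjective _ y
  obtain ⟨x, hx⟩ := exists_std A.hF θ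
  refine ⟨⟨_, hx⟩, ?_⟩
  show QuotientGroup.mk' _ ((MulAut.conj x)⁻¹ * θ) = _
  rw [map_mul, show QuotientGroup.mk' (Cfsg.Inn ↥(D.group F)) (MulAut.conj x)⁻¹ = 1 from
    (QuotientGroup.eq_one_iff _).2 (inv_mem ⟨x, rfl⟩), one_mul]

theorem mem_outMap_ker {θ : ↥(Std D F)} : θ ∈ (outMap D F).ker ↔ ∃ x, MulAut.conj x = θ.1 := by
  rw [MonoidHom.mem_ker]
  exact (QuotientGroup.eq_one_iff _).trans Iff.rfl

include A in
theorem AutData.card_outMap_ker : Nat.card (outMap D F).ker = Nat.card (D.diagonalSubgroup F) := by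
  have hle : D.diagonalSubgroup F ≤ D.group F := fun g hg =>
    A.hF.borel_le_group (le_sup_right (a := D.posUnipotent F) hg)
  let e : D.diagonalSubgroup F → (outMap D F).ker := fun h =>
    ⟨⟨MulAut.conj ⟨h.1, hle h.2⟩, (conj_mem_Std A.hF).2 h.2⟩, mem_outMap_ker.2 ⟨_, rfl⟩⟩
  refine (Nat.card_eq_of_bijective e ⟨?_, ?_⟩).symm
  · intro h h' heq
    have e1 : MulAut.conj (⟨h.1, hle h.2⟩ : ↥(D.group F)) = MulAut.conj ⟨h'.1, hle h'.2⟩ :=
      congrArg (fun z : (outMap D F).ker => z.1.1) heq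
    have e2 : MulAut.conj ((⟨h'.1, hle h'.2⟩ : ↥(D.group F))⁻¹ * ⟨h.1, hle h.2⟩) = 1 := by
      rw [map_mul, map_inv, e1, inv_mul_cancel]
    have e3 : (h'.1)⁻¹ * h.1 = 1 := by
      refine A.hF.center_trivial (coeff_of_mem A.mem) (mul_mem (inv_mem (hle h'.2)) (hle h.2)) fun g hg => ?_
      have := congrArg (fun z : MulAut ↥(D.group F) => ((z ⟨g, hg⟩ : ↥(D.group F)) : GL D.Idx F)) e2
      simp only [MulAut.conj_apply, MulAut.one_apply, Subgroup.coe_mul, Subgroup.coe_inv] at this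
      exact (mul_inv_eq_iff_eq_mul.1 this).symm
    exact Subtype.ext (inv_mul_eq_one.1 e3).symm
  · rintro ⟨⟨θ, hθ⟩, hk⟩
    obtain ⟨x, rfl⟩ := mem_outMap_ker.1 hk
    exact ⟨⟨x.1, (conj_mem_Std A.hF).1 hθ⟩, rfl⟩

theorem AutData.ker_le : (outMap D F).ker ≤ (A.psi (F := F)).ker := by
  rintro ⟨θ, hθ⟩ hk
  obtain ⟨x, rfl⟩ := mem_outMap_ker.1 hk
  rw [MonoidHom.mem_ker]
  refine Equiv.ext fun i => Fin.ext ?_
  have hx := (conj_mem_Std A.hF).1 hθ
  rw [A.hF.diagonalSubgroup_eq] at hx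
  obtain ⟨c, hc⟩ := hx
  refine A.psi_apply_eq i.isLt (u := ((torChar D c (D.simple i.val) : Fˣ) : F) * 1) (Subtype.ext ?_)
  show (x : GL D.Idx F) * A.hF.xg (D.simple i.val) 1 * (x : GL D.Idx F)⁻¹ = _
  rw [← hc, A.hF.torus_conj c (A.hF.simple_lt i i.isLt)]
  rfl

/-- The order of the outer automorphism group, up to the order of H. -/
theorem AutData.card_out :
    Nat.card (Cfsg.Out ↥(D.group F)) * Nat.card (D.diagonalSubgroup F) =
      (Nat.card F - 1) ^ D.rank * Nat.card (RingAut F) * Nat.card (A.psi (F := F)).range := by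
  have h1 := Subgroup.card_eq_card_quotient_mul_card_subgroup (outMap D F).ker
  have h2 := Subgroup.card_eq_card_quotient_mul_card_subgroup (A.psi (F := F)).ker
  rw [Nat.card_congr (QuotientGroup.quotientKerEquivOfSurjective _ A.outMap_surjective).toEquiv,
    A.card_outMap_ker] at h1
  rw [Nat.card_congr (QuotientGroup.quotientKerEquivRange (A.psi (F := F))).toEquiv, A.card_psi_ker] at h2
  rw [← h1, h2]
  ring

/-- The order of the outer automorphism group in terms of the kernel of the torus map. -/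
theorem AutData.card_out_eq {k : ℕ} {d : Fin k → ℕ} (K : KerCert (cartanSys D) d) :
    Nat.card (Cfsg.Out ↥(D.group F)) =
      (∏ a, Nat.gcd (d a) (Nat.card F - 1)) * Nat.card (RingAut F) * Nat.card (A.psi (F := F)).range := by
  haveI : Finite ↥(D.diagonalSubgroup F) := inferInstance
  refine Nat.eq_of_mul_eq_mul_right (Nat.card_pos (α := ↥(D.diagonalSubgroup F))) ?_
  rw [A.card_out, ← A.hF.card_diagonal K]
  ring

omit [Finite F] in
theorem card_ringAut [Fintype F] {p f : ℕ} [Fact p.Prime] (hF : Fintype.card F = p ^ f) :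
    Nat.card (RingAut F) = f := by
  obtain ⟨e⟩ := PSLn.fieldAut_equiv hF
  rw [show Nat.card (RingAut F) = Nat.card (Multiplicative (ZMod f)) from Nat.card_congr e.toEquiv,
    Nat.card_congr Multiplicative.toAdd, Nat.card_zmod]

theorem isCyclic_ringAut (F : Type*) [Field F] [Finite F] : IsCyclic (RingAut F) := by
  haveI := Fintype.ofFinite F
  obtain ⟨p, _⟩ := CharP.exists F
  haveI : Fact p.Prime := ⟨CharP.char_is_prime F p⟩
  obtain ⟨n, -, hn⟩ := FiniteField.card F p
  obtain ⟨e⟩ := PSLn.fieldAut_equiv hn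
  haveI : IsCyclic (Multiplicative (ZMod n)) := isCyclic_multiplicative
  exact isCyclic_of_surjective e.symm.toMonoidHom e.symm.surjective

/-- The lists of values of the permutations in the image. -/
theorem AutData.psi_mem_autos (θ : ↥(Std D F)) : permList (A.psi θ) ∈ autos D D.rank := by
  obtain ⟨c, φ, h⟩ := A.psi_nf θ
  exact h.mem_autos

theorem AutData.card_range_le : Nat.card (A.psi (F := F)).range ≤ (autos D D.rank).length := by
  classical
  let e : (A.psi (F := F)).range → {L // L ∈ (autos D D.rank).toFinset} := fun π =>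
    ⟨permList π.1, by
      obtain ⟨θ, hθ⟩ := π.2
      rw [List.mem_toFinset, ← hθ]
      exact A.psi_mem_autos θ⟩
  have he : Function.Injective e := fun a b h => Subtype.ext (permList_injective (congrArg Subtype.val h))
  refine (Nat.card_le_card_of_injective e he).trans ?_
  rw [Nat.card_eq_finsetCard]
  exact List.toFinset_card_le _

theorem AutData.exists_psi_ne {R : RMap} {p : ℕ} (hm : ModField F p) (hok : R.okMap D p = true)
    (hpos : okPosMap D R = true) {N q : ℕ} (hord : R.okOrder D p N q = true)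
    (fq : F →+* F) (hq : ∀ t, fq t = t ^ q) {σl : List ℕ} (hnodes : R.okNodes D σl = true)
    (hlt : ∀ i, i < D.rank → σl.getD i 0 < D.rank) :
    ∃ θ : ↥(Std D F), ∀ i : Fin D.rank, (A.psi θ i).val = σl.getD i.val 0 := by
  obtain ⟨α, hα, hi⟩ := A.exists_graph hm hok hpos hord fq hq hnodes
  exact ⟨⟨α, hα⟩, fun i => A.psi_apply_eq (hlt _ i.isLt) (hi i)⟩

/-- Two permutations in the image. -/
theorem AutData.card_range_eq_two (hlen : (autos D D.rank).length ≤ 2) {θ : ↥(Std D F)}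
    (hθ : A.psi θ ≠ 1) : Nat.card (A.psi (F := F)).range = 2 := by
  refine le_antisymm (A.card_range_le.trans hlen) ?_
  haveI : Nontrivial (A.psi (F := F)).range :=
    ⟨⟨1, ⟨⟨_, θ, rfl⟩, fun h => hθ (congrArg Subtype.val h).symm⟩⟩⟩
  exact Finite.one_lt_card

theorem AutData.card_range_eq_one (h : ∀ θ : ↥(Std D F), A.psi θ = 1) :
    Nat.card (A.psi (F := F)).range = 1 := by
  rw [show (A.psi (F := F)).range = ⊥ from (eq_bot_iff.2 fun x ⟨θ, hθ⟩ => by rw [← hθ, h θ]; exact one_mem _)]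
  exact Subgroup.card_bot

theorem AutData.psi_eq_one_of_single (hlen : (autos D D.rank).length ≤ 1) (θ : ↥(Std D F)) :
    A.psi θ = 1 := by
  refine permList_injective ?_
  have h1 := A.psi_mem_autos θ
  have h2 := A.psi_mem_autos (1 : ↥(Std D F))
  rw [map_one] at h2
  generalize autos D D.rank = L at h1 h2 hlen
  match L, h1, h2, hlen with
  | [], h1, _, _ => simp at h1
  | [x], h1, h2, _ => rw [List.mem_singleton] at h1 h2; rw [h1, h2]
  | _ :: _ :: _, _, _, hlen => simp at hlen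

theorem NF.congr {D : ChevalleyDatum} {F : Type*} [Field F] {hF : Facts D} {θ : MulAut ↥(D.group F)}
    {π π' : Equiv.Perm (Fin D.rank)} {c c' : Fin D.rank → Fˣ} {φ φ' : Fin D.rank → RingAut F}
    (h : NF hF θ π c φ) (h1 : π = π') (h2 : c = c') (h3 : φ = φ') : NF hF θ π' c' φ' := by
  subst h1 h2 h3; exact h

/-! ### The subgroups of diagonal and field automorphisms -/

/-- The diagonal automorphisms as a homomorphism. -/
noncomputable def AutData.dHom : (Fin D.rank → Fˣ) →* ↥(Std D F) :=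
  MonoidHom.mk' (fun c => ⟨A.dAut c, A.dAut_mem_Std c⟩) fun c c' => Subtype.ext (by
    refine NF.ext A.hF (A.dAut_NF (c * c')) ?_
    have h := (A.dAut_NF c).mul A.hF (A.dAut_NF c')
    exact h.congr (one_mul 1) (funext fun i => Units.ext (by simp)) (funext fun i => one_mul 1))

/-- The field automorphisms as a homomorphism. -/
noncomputable def AutData.fHom : RingAut F →* ↥(Std D F) :=
  MonoidHom.mk' (fun σ => ⟨A.fAut σ, A.fAut_mem_Std σ⟩) fun σ σ' =>
    Subtype.ext (MulEquiv.ext fun g => Subtype.ext (Units.ext rfl))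

theorem AutData.coe_dHom (c : Fin D.rank → Fˣ) : ((A.dHom c : ↥(Std D F)) : MulAut ↥(D.group F)) = A.dAut c := rfl

theorem AutData.coe_fHom (σ : RingAut F) : ((A.fHom σ : ↥(Std D F)) : MulAut ↥(D.group F)) = A.fAut σ := rfl

theorem AutData.dHom_range_normal : ((A.dHom (F := F)).range).Normal := by
  refine ⟨?_⟩
  rintro _ ⟨χ, rfl⟩ θ
  obtain ⟨c, φ, h⟩ := A.psi_nf θ
  set π := A.psi θ
  refine ⟨fun j => Units.map (φ (π.symm j)).toRingHom.toMonoidHom (χ (π.symm j)), ?_⟩
  rw [eq_mul_inv_iff_mul_eq]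
  refine Subtype.ext (NF.ext A.hF ((A.dAut_NF _).mul A.hF h) ?_)
  have h' := h.mul A.hF (A.dAut_NF χ)
  exact h'.congr (by rw [mul_one, one_mul]) (funext fun i => Units.ext (by simp [mul_comm]))
    (funext fun i => by simp)

theorem AutData.Dbar_eq :
    (Subgroup.closure {φ : MulAut ↥(D.group F) | D.IsDiagonalAut φ}).map
      (QuotientGroup.mk' (Cfsg.Inn ↥(D.group F))) = (A.dHom (F := F)).range.map (outMap D F) := by
  have e : {φ : MulAut ↥(D.group F) | D.IsDiagonalAut φ} = ((A.dHom (F := F)).range.map (Std D F).subtype : Set _) := by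
    ext φ
    simp only [Set.mem_setOf_eq, A.isDiagonal_iff]
    constructor
    · rintro ⟨c, rfl⟩
      exact ⟨_, ⟨c, rfl⟩, rfl⟩
    · rintro ⟨_, ⟨c, rfl⟩, rfl⟩
      exact ⟨c, rfl⟩
  rw [e, Subgroup.closure_eq, Subgroup.map_map]
  rfl

theorem AutData.Fbar_eq :
    (Subgroup.closure {φ : MulAut ↥(D.group F) | D.IsFieldAut φ}).map
      (QuotientGroup.mk' (Cfsg.Inn ↥(D.group F))) = (A.fHom (F := F)).range.map (outMap D F) := by
  have e : {φ : MulAut ↥(D.group F) | D.IsFieldAut φ} = ((A.fHom (F := F)).range.map (Std D F).subtype : Set _) := by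
    ext φ
    simp only [Set.mem_setOf_eq, A.isField_iff]
    constructor
    · rintro ⟨c, rfl⟩
      exact ⟨_, ⟨c, rfl⟩, rfl⟩
    · rintro ⟨_, ⟨c, rfl⟩, rfl⟩
      exact ⟨c, rfl⟩
  rw [e, Subgroup.closure_eq, Subgroup.map_map]
  rfl

theorem AutData.psi_ker_eq : (A.psi (F := F)).ker = (A.dHom (F := F)).range ⊔ (A.fHom (F := F)).range := by
  refine le_antisymm (fun θ hθ => ?_) (sup_le ?_ ?_)
  · obtain ⟨c, σ, rfl⟩ := A.mem_psi_ker.1 hθ
    have e : A.df c σ = A.dHom c * A.fHom σ := Subtype.ext (by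
      rw [Subgroup.coe_mul, A.coe_dHom, A.coe_fHom, AutData.df])
    rw [e]
    exact Subgroup.mul_mem_sup (MonoidHom.mem_range.2 ⟨c, rfl⟩) (MonoidHom.mem_range.2 ⟨σ, rfl⟩)
  · rintro _ ⟨c, rfl⟩
    refine MonoidHom.mem_ker.2 (A.psi_eq (c := c) (φ := fun _ => 1) ?_)
    rw [A.coe_dHom]
    exact A.dAut_NF c
  · rintro _ ⟨σ, rfl⟩
    refine MonoidHom.mem_ker.2 (A.psi_eq (c := 1) (φ := fun _ => σ) ?_)
    rw [A.coe_fHom]
    exact A.fAut_NF σ

/-- The structure of the outer automorphism group. -/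
theorem AutData.out_structure (Dbar Fbar : Subgroup (Cfsg.Out ↥(D.group F)))
    (hDbar : Dbar = (Subgroup.closure {φ : MulAut ↥(D.group F) | D.IsDiagonalAut φ}).map (QuotientGroup.mk' (Cfsg.Inn ↥(D.group F))))
    (hFbar : Fbar = (Subgroup.closure {φ : MulAut ↥(D.group F) | D.IsFieldAut φ}).map (QuotientGroup.mk' (Cfsg.Inn ↥(D.group F)))) :
    Dbar.Normal ∧ IsMulCommutative ↥Dbar ∧ IsCyclic ↥Fbar ∧ (Dbar ⊔ Fbar).Normal ∧
      (Dbar ⊔ Fbar).index = Nat.card (A.psi (F := F)).range ∧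
      ∀ a b : ↥(Std D F), commutator (Cfsg.Out ↥(D.group F)) ≤ Dbar ⊔ Fbar → Commute (A.psi a) (A.psi b) := by
  rw [A.Dbar_eq] at hDbar
  rw [A.Fbar_eq] at hFbar
  subst hDbar hFbar
  have hsurj := A.outMap_surjective (F := F)
  rw [← Subgroup.map_sup, ← A.psi_ker_eq]
  have hD := A.dHom_range_normal (F := F)
  refine ⟨hD.map _ hsurj, ?_, ?_, (MonoidHom.normal_ker _).map _ hsurj, ?_, fun a b hc => ?_⟩
  · rw [← MonoidHom.range_comp]
    refine ⟨⟨?_⟩⟩
    rintro ⟨_, c, rfl⟩ ⟨_, c', rfl⟩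
    exact Subtype.ext (by rw [Subgroup.coe_mul, Subgroup.coe_mul, ← map_mul, ← map_mul, mul_comm])
  · rw [← MonoidHom.range_comp]
    haveI := isCyclic_ringAut F
    exact isCyclic_of_surjective ((outMap D F).comp A.fHom).rangeRestrict
      (MonoidHom.rangeRestrict_surjective _)
  · rw [Subgroup.index_map_eq _ hsurj A.ker_le, Subgroup.index_ker]
  · have hm : outMap D F ⁅a, b⁆ ∈ (A.psi (F := F)).ker.map (outMap D F) := by
      refine hc ?_
      rw [map_commutatorElement, commutator_def]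
      exact Subgroup.commutator_mem_commutator (Subgroup.mem_top _) (Subgroup.mem_top _)
    have hm' : ⁅a, b⁆ ∈ ((A.psi (F := F)).ker.map (outMap D F)).comap (outMap D F) := hm
    rw [Subgroup.comap_map_eq, sup_eq_left.2 A.ker_le, MonoidHom.mem_ker, map_commutatorElement] at hm'
    exact commutatorElement_eq_one_iff_commute.1 hm'

end Cfsg.Agent.Small.ChevAut
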