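import Cfsg.Agent.Lib.Small.ChevAut.RootFacts
import Cfsg.Agent.Lib.Small.SteinbergValues
import Cfsg.Prelude.Def_ChevAutomorphisms
import Cfsg.Prelude.Def_KGroupFacts

/-!
Every automorphism of a finite Chevalley group can be moved by an inner one to fix U and V; the automorphisms
doing so, and the inner automorphisms among them.
-/

set_option autoImplicit false
set_option synthInstance.maxHeartbeats 400000
set_option linter.style.haveILetI false

namespace Cfsg.Agent.Small.ChevAut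

open Cfsg.Lie Cfsg.Agent.Lie
open scoped MatrixGroups

variable {D : ChevalleyDatum} {F : Type*} [Field F]

/-- A root element in the group. -/
noncomputable def xG (hF : Facts D) (r : ℕ) (t : F) : ↥(D.group F) := ⟨hF.xg r t, hF.xg_mem_group r t⟩

@[simp] theorem coe_xG (hF : Facts D) (r : ℕ) (t : F) : (xG hF r t : GL D.Idx F) = hF.xg r t := rfl

theorem xG_add (hF : Facts D) (r : ℕ) (t u : F) : xG hF r (t + u) = xG hF r t * xG hF r u :=
  Subtype.ext (hF.xg_add r t u)

theorem xG_zero (hF : Facts D) (r : ℕ) : xG hF r (0 : F) = 1 := Subtype.ext (hF.xg_zero r)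

theorem xG_inj (hF : Facts D) {r : ℕ} (hr : r < D.nroots) {t u : F} (h : xG hF r t = xG hF r u) : t = u :=
  xg_inj hF hr (congrArg Subtype.val h)

theorem xG_root_inj (hF : Facts D) {r s : ℕ} (hr : r < D.nroots) (hs : s < D.nroots) {t u : F} (ht : t ≠ 0)
    (h : xG hF r t = xG hF s u) : r = s := xg_root_inj hF hr hs ht (congrArg Subtype.val h)

/-- Equality with a root matrix. -/
theorem eq_xG (hF : Facts D) {g : ↥(D.group F)} {r : ℕ} {t : F} :
    ((g : GL D.Idx F) : Matrix D.Idx D.Idx F) = D.x F r t ↔ g = xG hF r t :=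
  ⟨fun h => Subtype.ext (Units.ext h), fun h => h ▸ rfl⟩

variable (D F) in
/-- U inside the group. -/
def UG : Subgroup ↥(D.group F) := (D.posUnipotent F).subgroupOf (D.group F)

variable (D F) in
/-- V inside the group. -/
def VG : Subgroup ↥(D.group F) := (D.negUnipotent F).subgroupOf (D.group F)

theorem mem_UG {g : ↥(D.group F)} : g ∈ UG D F ↔ (g : GL D.Idx F) ∈ D.posUnipotent F := Iff.rfl

theorem mem_VG {g : ↥(D.group F)} : g ∈ VG D F ↔ (g : GL D.Idx F) ∈ D.negUnipotent F := Iff.rfl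

theorem UG_le (hF : Facts D) : D.posUnipotent F ≤ D.group F := fun g hg => by
  refine hF.borel_le_group ?_
  rw [← hF.tsys_B]
  rw [← hF.tsys_U] at hg
  exact (hF.tsys F).U_le_B hg

theorem VG_le (hF : Facts D) : D.negUnipotent F ≤ D.group F :=
  hF.negUnipotent_le fun r _ t => hF.xg_mem_group r t

variable (D F) in
/-- The automorphisms fixing U and V. -/
def Std : Subgroup (MulAut ↥(D.group F)) where
  carrier := {θ | (UG D F).map θ.toMonoidHom = UG D F ∧ (VG D F).map θ.toMonoidHom = VG D F}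
  one_mem' := ⟨Subgroup.map_id _, Subgroup.map_id _⟩
  mul_mem' := by
    rintro a b ⟨ha, ha'⟩ ⟨hb, hb'⟩
    constructor
    · rw [show (a * b).toMonoidHom = a.toMonoidHom.comp b.toMonoidHom from rfl, ← Subgroup.map_map, hb, ha]
    · rw [show (a * b).toMonoidHom = a.toMonoidHom.comp b.toMonoidHom from rfl, ← Subgroup.map_map, hb', ha']
  inv_mem' := by
    rintro a ⟨ha, ha'⟩
    constructor
    · conv_lhs => rw [← ha]
      rw [Subgroup.map_map, show a⁻¹.toMonoidHom.comp a.toMonoidHom = MonoidHom.id _ from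
        MonoidHom.ext fun x => a.symm_apply_apply x, Subgroup.map_id]
    · conv_lhs => rw [← ha']
      rw [Subgroup.map_map, show a⁻¹.toMonoidHom.comp a.toMonoidHom = MonoidHom.id _ from
        MonoidHom.ext fun x => a.symm_apply_apply x, Subgroup.map_id]

theorem mem_Std {θ : MulAut ↥(D.group F)} :
    θ ∈ Std D F ↔ (∀ g, θ g ∈ UG D F ↔ g ∈ UG D F) ∧ ∀ g, θ g ∈ VG D F ↔ g ∈ VG D F := by
  have key : ∀ K : Subgroup ↥(D.group F),
      K.map θ.toMonoidHom = K ↔ ∀ g, θ g ∈ K ↔ g ∈ K := by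
    intro K
    constructor
    · intro h g
      constructor
      · intro hg
        rw [← h] at hg
        obtain ⟨y, hy, hye⟩ := hg
        rwa [← θ.injective (a₁ := y) (a₂ := g) hye]
      · intro hg
        rw [← h]
        exact ⟨g, hg, rfl⟩
    · intro h
      ext g
      constructor
      · rintro ⟨y, hy, rfl⟩
        exact (h y).2 hy
      · intro hg
        exact ⟨θ.symm g, (h _).1 (by rwa [MulEquiv.apply_symm_apply]), θ.apply_symm_apply g⟩
  exact and_congr (key _) (key _)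

/-- Conjugation by an element of the group lies in Std exactly for elements of H. -/
theorem conj_mem_Std (hF : Facts D) {x : ↥(D.group F)} :
    MulAut.conj x ∈ Std D F ↔ (x : GL D.Idx F) ∈ D.diagonalSubgroup F := by
  rw [← hF.tsys_H]
  constructor
  · intro h
    obtain ⟨h1, h2⟩ := mem_Std.1 h
    exact mem_H_of_normalizes hF x.2 (fun u hu => (h1 ⟨u, UG_le hF hu⟩).2 hu)
      (fun v hv => (h2 ⟨v, VG_le hF hv⟩).2 hv)
  · intro hx
    have hBU : ∀ a ∈ (hF.tsys F).H, ∀ u ∈ D.posUnipotent F, a * u * a⁻¹ ∈ D.posUnipotent F :=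
      fun a ha u hu => B_conj_U hF ((hF.tsys F).H_le_B ha) hu
    refine mem_Std.2 ⟨fun g => ⟨fun hg => ?_, fun hg => hBU _ hx _ hg⟩,
      fun g => ⟨fun hg => ?_, fun hg => H_conj_V hF hx hg⟩⟩
    · have := hBU _ (inv_mem hx) _ hg
      simpa [mem_UG, mul_assoc] using this
    · have := H_conj_V hF (inv_mem hx) hg
      simpa [mem_VG, mul_assoc] using this

variable [Finite F]

/-- U is a Sylow subgroup: subgroups of the same order are conjugate to it. -/
theorem exists_conj_UG (hF : Facts D) (K : Subgroup ↥(D.group F)) (hK : Nat.card K = Nat.card (UG D F)) :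
    ∃ a : ↥(D.group F), K = (UG D F).map (MulAut.conj a).toMonoidHom := by
  classical
  haveI := Fintype.ofFinite F
  obtain ⟨p, _⟩ := CharP.exists F
  haveI : Fact p.Prime := ⟨CharP.char_is_prime F p⟩
  haveI : Finite ↥(D.group F) := inferInstance
  have hU : Nat.card (UG D F) = p ^ (Nat.card ↥(D.group F)).factorization p := by
    rw [UG, Nat.card_congr (Subgroup.subgroupOfEquivOfLe (UG_le hF)).toEquiv, ← hF.tsys_U]
    exact StValues.card_U_eq hF
  obtain ⟨a, ha⟩ := MulAction.exists_smul_eq ↥(D.group F) (Sylow.ofCard (UG D F) hU)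
    (Sylow.ofCard K (hK.trans hU))
  refine ⟨a, ?_⟩
  have h2 := congrArg Sylow.toSubgroup ha
  rw [Sylow.coe_subgroup_smul] at h2
  exact h2.symm

/-- Every automorphism is an inner one times one fixing U and V. -/
theorem exists_std (hF : Facts D) (θ : MulAut ↥(D.group F)) :
    ∃ x : ↥(D.group F), (MulAut.conj x)⁻¹ * θ ∈ Std D F := by
  classical
  set n0 : ↥(D.group F) := ⟨(hF.tsys F).nW (w0 hF), hF.nW_mem_group _⟩ with hn0
  have hV : VG D F = (UG D F).map (MulAut.conj n0).toMonoidHom := by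
    ext v
    constructor
    · intro hv
      obtain ⟨u, hu, hue⟩ := (hF.conj_longest (w0_spec hF)).ge hv
      exact ⟨⟨u, UG_le hF hu⟩, hu, Subtype.ext hue⟩
    · rintro ⟨u, hu, rfl⟩
      exact n0_U hF hu
  have hcard : ∀ (K : Subgroup ↥(D.group F)) (φ : MulAut ↥(D.group F)),
      Nat.card (K.map φ.toMonoidHom) = Nat.card K := fun K φ =>
    (Nat.card_congr (K.equivMapOfInjective φ.toMonoidHom φ.injective).toEquiv).symm
  obtain ⟨a, ha⟩ := exists_conj_UG hF ((UG D F).map θ.toMonoidHom) (hcard _ _)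
  set θ₁ := (MulAut.conj a)⁻¹ * θ with hθ₁
  have h1U : (UG D F).map θ₁.toMonoidHom = UG D F := by
    rw [show θ₁.toMonoidHom = ((MulAut.conj a)⁻¹).toMonoidHom.comp θ.toMonoidHom from rfl,
      ← Subgroup.map_map, ha, Subgroup.map_map]
    rw [show ((MulAut.conj a)⁻¹).toMonoidHom.comp (MulAut.conj a).toMonoidHom = MonoidHom.id _ from
      MonoidHom.ext fun x => (MulAut.conj a).symm_apply_apply x, Subgroup.map_id]
  obtain ⟨g, hg⟩ := exists_conj_UG hF ((VG D F).map θ₁.toMonoidHom) (by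
    rw [hcard, hV, hcard])
  obtain ⟨b, hb, w, u, hu, hgu⟩ := hF.mem_bnu g.2
  have huU : u ∈ D.posUnipotent F := by
    rw [← hF.tsys_U]
    exact CommSys.US_mono _ (fun r hr => Facts.mem_posL.2 ((TorusSys.closed_invList w).mem_pos r hr)) hu
  have huconj : ∀ z ∈ D.posUnipotent F, u * z * u⁻¹ ∈ D.posUnipotent F := fun z hz =>
    mul_mem (mul_mem huU hz) (inv_mem huU)
  have hmeet : ∀ z : ↥(D.group F), z ∈ UG D F → z ∈ (VG D F).map θ₁.toMonoidHom → z = 1 := by
    intro z hz hz'
    rw [← h1U] at hz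
    obtain ⟨z₁, hz₁, he₁⟩ := hz
    obtain ⟨z₂, hz₂, he₂⟩ := hz'
    have h12 : z₁ = z₂ := θ₁.injective (he₁.trans he₂.symm)
    subst h12
    have : z₁ = 1 := Subtype.ext (U_inter_V hF hz₁ hz₂)
    rw [← he₁, this, map_one]
  have hlong : ∀ r : Fin D.nroots, r ∈ hF.refSys.P → w • r ∉ hF.refSys.P := by
    refine longest_of_trivial_meet (F := F) hF w fun z hz hz' => ?_
    have hbz := B_conj_U hF hb hz
    have h1 := hmeet ⟨b * z * b⁻¹, UG_le hF hbz⟩ hbz (by
      rw [hg]
      refine ⟨⟨u⁻¹ * (((hF.tsys F).nW w)⁻¹ * z * (hF.tsys F).nW w) * u, UG_le hF ?_⟩, ?_, ?_⟩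
      · exact mul_mem (mul_mem (inv_mem huU) hz') huU
      · exact mul_mem (mul_mem (inv_mem huU) hz') huU
      · refine Subtype.ext ?_
        show (g : GL D.Idx F) * _ * (g : GL D.Idx F)⁻¹ = _
        rw [hgu]
        group)
    have h2 := congrArg Subtype.val h1
    simpa [conj_eq_one_iff] using h2
  have hbG : b ∈ D.group F := hF.borel_le_group (by rw [← hF.tsys_B]; exact hb)
  have hW := hF.conj_longest (F := F) hlong
  refine ⟨a * ⟨b, hbG⟩, ?_⟩
  rw [map_mul, mul_inv_rev, mul_assoc, ← hθ₁]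
  set cb := MulAut.conj (⟨b, hbG⟩ : ↥(D.group F)) with hcb
  constructor
  · rw [show (cb⁻¹ * θ₁).toMonoidHom = cb⁻¹.toMonoidHom.comp θ₁.toMonoidHom from rfl, ← Subgroup.map_map, h1U]
    ext z
    constructor
    · rintro ⟨y, hy, rfl⟩
      have := B_conj_U hF (inv_mem hb) hy
      simpa [mem_UG, hcb, MulAut.conj_symm_apply] using this
    · intro hz
      refine ⟨cb z, B_conj_U hF hb hz, cb.symm_apply_apply z⟩
  · rw [show (cb⁻¹ * θ₁).toMonoidHom = cb⁻¹.toMonoidHom.comp θ₁.toMonoidHom from rfl, ← Subgroup.map_map, hg]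
    ext z
    constructor
    · rintro ⟨_, ⟨y, hy, rfl⟩, rfl⟩
      have h1 := hW.le ⟨_, huconj _ hy, rfl⟩
      show b⁻¹ * ((g : GL D.Idx F) * (y : GL D.Idx F) * (g : GL D.Idx F)⁻¹) * b ∈ D.negUnipotent F
      rw [hgu]
      convert h1 using 1
      show _ = (hF.tsys F).nW w * (u * (y : GL D.Idx F) * u⁻¹) * ((hF.tsys F).nW w)⁻¹
      group
    · intro hz
      obtain ⟨v, hv, hve⟩ := hW.ge hz
      have hv' : u⁻¹ * v * u ∈ D.posUnipotent F := mul_mem (mul_mem (inv_mem huU) hv) huU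
      refine ⟨_, ⟨⟨_, UG_le hF hv'⟩, hv', rfl⟩, Subtype.ext ?_⟩
      show b⁻¹ * ((g : GL D.Idx F) * (u⁻¹ * v * u) * (g : GL D.Idx F)⁻¹) * b = z
      rw [hgu, show (z : GL D.Idx F) = _ from hve.symm]
      show _ = (hF.tsys F).nW w * v * ((hF.tsys F).nW w)⁻¹
      group

end Cfsg.Agent.Small.ChevAut
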