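import Cfsg.Agent.Lib.Lie.Steinberg
import Cfsg.Agent.Lib.Lie.BruhatPair
import Cfsg.Agent.Lib.Lie.RootMap

/-!
Facts about root subgroups of Chevalley matrix groups used for the automorphism theorem: distinctness,
the rank-one identities, the normalisers of the two maximal unipotent subgroups.
-/

set_option autoImplicit false

namespace Cfsg.Agent.Small.ChevAut

open Cfsg.Lie Cfsg.Agent.Lie
open scoped MatrixGroups

variable {D : ChevalleyDatum} {F : Type*} [Field F] (hF : Facts D)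

include hF in
/-- Root elements of distinct roots are distinct. -/
theorem xg_root_inj {r s : ℕ} (hr : r < D.nroots) (hs : s < D.nroots) {t u : F} (ht : t ≠ 0)
    (h : hF.xg r t = hF.xg s u) : r = s := by
  by_contra hne
  obtain ⟨d, hd⟩ := hF.co_primitive r hr
  have hM := congrArg Units.val h
  rw [Facts.coe_xg, Facts.coe_xg, ChevalleyDatum.x, ChevalleyDatum.x, dif_pos hr, dif_pos hs] at hM
  have key : ∀ j, j < D.rank → ((co D r j : ℤ) : F) * t = 0 := by
    intro j hj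
    have e := congrFun (congrFun hM (Sum.inl ⟨j, hj⟩)) (Sum.inr ⟨D.neg r, hF.neg_lt hr⟩)
    have e1 : D.negIdx.getD r 0 ≠ r := hF.neg_ne_self hr
    have e2 : D.negIdx.getD r 0 ≠ D.negIdx.getD s 0 := fun h' => hne (by
      rw [← hF.neg_neg hr, ← hF.neg_neg hs]; exact congrArg D.neg h')
    simp only [ChevalleyDatum.xMat, Matrix.of_apply, ChevalleyDatum.neg, Fin.ext_iff, if_neg e1,
      if_neg e2, if_true, ite_self] at e
    exact e
  have h0 : ((∑ j ∈ Finset.range D.rank, d j * co D r j : ℤ) : F) * t = 0 := by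
    rw [Int.cast_sum, Finset.sum_mul]
    refine Finset.sum_eq_zero fun j hj => ?_
    rw [Int.cast_mul, mul_assoc, key j (Finset.mem_range.1 hj), mul_zero]
  rw [hd, Int.cast_one, one_mul] at h0
  exact ht h0

include hF in
theorem xg_inj {r : ℕ} (hr : r < D.nroots) {t u : F} (h : hF.xg r t = hF.xg r u) : t = u := by
  have h1 : hF.xg r (t - u) = 1 := by
    rw [sub_eq_add_neg, hF.xg_add, hF.xg_neg, h, mul_inv_cancel]
  have h2 := congrArg Units.val h1
  rw [Facts.coe_xg, Units.val_one, hF.x_eq_one r hr] at h2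
  exact sub_eq_zero.1 h2

theorem xg_ne_one {r : ℕ} (hr : r < D.nroots) {t : F} (ht : t ≠ 0) : hF.xg r t ≠ 1 := fun h =>
  ht (xg_inj hF hr (h.trans (hF.xg_zero r).symm))

include hF in
theorem simple_inj {i j : Fin D.rank} (h : D.simple i.val = D.simple j.val) : i = j := by
  have e1 := hF.co_simple i.val i.isLt i.val i.isLt
  have e2 := hF.co_simple j.val j.isLt i.val i.isLt
  rw [if_pos rfl, h, e2] at e1
  by_contra hne
  rw [if_neg fun h' => hne (Fin.ext h')] at e1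
  exact zero_ne_one e1

include hF in
theorem simple_ne_neg (i j : Fin D.rank) : D.simple i.val ≠ D.neg (D.simple j.val) := by
  intro h
  have h1 := hF.simple_ge i i.isLt
  have h2 := hF.neg_eq _ (hF.simple_lt j j.isLt)
  have h3 := hF.simple_ge j j.isLt
  have h4 := hF.simple_lt j j.isLt
  have h5 := hF.even
  omega

/-- The action of h on a root element. -/
theorem hg_conj (i : Fin D.rank) (c : Fˣ) {s : ℕ} (hs : s < D.nroots) (t : F) :
    hF.hg (D.simple i.val) (c : F) * hF.xg s t * (hF.hg (D.simple i.val) (c : F))⁻¹ =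
      hF.xg s (((c ^ D.cartan i.val s : Fˣ) : F) * t) := by
  rw [hF.hg_eq_torus (hF.simple_lt i i.isLt), hF.torus_conj _ hs, Facts.torChar_hCoord,
    hF.pairing_simple i.isLt]

include hF in
theorem cartan_neg_simple (i : Fin D.rank) : D.cartan i.val (D.neg (D.simple i.val)) = -2 := by
  rw [hF.cartan_neg i i.isLt _ (hF.simple_lt i i.isLt), hF.cartan_simple i i.isLt]

theorem ng_eq_hg (r : ℕ) (t : F) : hF.ng r t = hF.hg r t * hF.ng r 1 := by
  rw [hF.hg_eq, hF.ng_neg, inv_mul_cancel_right]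

theorem ng_one_conj (i : Fin D.rank) (u : F) :
    hF.ng (D.simple i.val) 1 * hF.xg (D.simple i.val) u * (hF.ng (D.simple i.val) 1)⁻¹ =
      hF.xg (D.neg (D.simple i.val)) (-u) := by
  rw [hF.ng_conj i.val i.isLt _ (hF.simple_lt i i.isLt), Facts.refl_simple]
  congr 1
  simp [Facts.sgn, hF.eta_simple i.val i.isLt]

theorem ng_conj_pos (i : Fin D.rank) {t : F} (ht : t ≠ 0) (u : F) :
    hF.ng (D.simple i.val) t * hF.xg (D.simple i.val) u * (hF.ng (D.simple i.val) t)⁻¹ =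
      hF.xg (D.neg (D.simple i.val)) (-(u / t ^ 2)) := by
  rw [ng_eq_hg hF _ t, show hF.hg (D.simple i.val) t * hF.ng (D.simple i.val) 1 * hF.xg (D.simple i.val) u *
      (hF.hg (D.simple i.val) t * hF.ng (D.simple i.val) 1)⁻¹ = hF.hg (D.simple i.val) t *
      (hF.ng (D.simple i.val) 1 * hF.xg (D.simple i.val) u * (hF.ng (D.simple i.val) 1)⁻¹) *
      (hF.hg (D.simple i.val) t)⁻¹ by group, ng_one_conj hF]
  have h := hg_conj hF i (Units.mk0 t ht) (hF.neg_lt (hF.simple_lt i i.isLt)) (-u)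
  rw [Units.val_mk0] at h
  rw [h, cartan_neg_simple hF i]
  congr 1
  simp [_root_.zpow_neg, Units.val_inv_eq_inv_val, div_eq_mul_inv, mul_comm, zpow_ofNat]

theorem neg_root_eq (i : Fin D.rank) {t : F} (ht : t ≠ 0) :
    hF.xg (D.neg (D.simple i.val)) t = hF.xg (D.simple i.val) t⁻¹ * hF.ng (D.simple i.val) (-t⁻¹) *
      hF.xg (D.simple i.val) t⁻¹ := by
  rw [hF.ng_eq]
  simp only [inv_neg, inv_inv, hF.xg_neg, neg_neg]
  group

/-- Uniqueness in the nontrivial cell of a rank one subgroup. -/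
theorem rank_one_unique (i : Fin D.rank) {a a' b b' c c' : F} (hc : c ≠ 0) (hc' : c' ≠ 0)
    (h : hF.xg (D.simple i.val) a * hF.ng (D.simple i.val) c * hF.xg (D.simple i.val) b =
      hF.xg (D.simple i.val) a' * hF.ng (D.simple i.val) c' * hF.xg (D.simple i.val) b') :
    a = a' ∧ b = b' ∧ c ^ 2 = c' ^ 2 := by
  have hα := hF.simple_lt i i.isLt
  obtain ⟨k, hk, hke⟩ := hF.nS_eq_nW (F := F) i
  rw [hF.tsys_nS] at hke
  have hmem : ∀ z : F, hF.xg (D.simple i.val) z ∈ (hF.tsys F).US (TorusSys.invList (hF.wS i)) := fun z => by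
    refine CommSys.x_mem_US _ (TorusSys.mem_invList.2 ⟨hα, ?_⟩) z
    refine (RefSystem.mem_inv _).2 ⟨hF.refSys.α_mem i, ?_⟩
    show hF.refSys.s i • hF.refSys.α i ∉ hF.refSys.P
    rw [hF.refSys.s_α, hF.refSys.neg_mem]
    exact not_not_intro (hF.refSys.α_mem i)
  have hB : ∀ z w : F, w ≠ 0 → hF.xg (D.simple i.val) z * hF.hg (D.simple i.val) w * k ∈ (hF.tsys F).B := by
    intro z w hw
    refine mul_mem (mul_mem ((hF.tsys F).U_le_B ((hF.tsys F).x_mem_U (hF.simple_ge i i.isLt) hα z))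
      ((hF.tsys F).H_le_B ?_)) ((hF.tsys F).H_le_B hk)
    rw [← hF.tsys_h]
    exact (hF.tsys F).h_mem hα hw
  have e : ∀ z w v : F, hF.xg (D.simple i.val) z * hF.ng (D.simple i.val) w * hF.xg (D.simple i.val) v =
      hF.xg (D.simple i.val) z * hF.hg (D.simple i.val) w * k * (hF.tsys F).nW (hF.wS i) *
        hF.xg (D.simple i.val) v := by
    intro z w v
    rw [ng_eq_hg hF _ w, hke]
    group
  rw [e, e] at h
  obtain ⟨-, h1, h2⟩ := hF.bruhat_unique (hB a c hc) (hB a' c' hc') (hmem b) (hmem b') h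
  have h3 := mul_right_cancel h1
  have hH : ∀ w : F, w ≠ 0 → hF.hg (D.simple i.val) w ∈ (hF.tsys F).H := fun w hw => by
    rw [← hF.tsys_h]; exact (hF.tsys F).h_mem hα hw
  have h4 : hF.xg (D.simple i.val) (a - a') = 1 := by
    refine hF.U_inter_H ((hF.tsys F).x_mem_U (hF.simple_ge i i.isLt) hα _) ?_
    have : hF.xg (D.simple i.val) (a - a') = hF.hg (D.simple i.val) c' * (hF.hg (D.simple i.val) c)⁻¹ := by
      rw [show a - a' = -a' + a by ring, hF.xg_add, hF.xg_neg, inv_mul_eq_iff_eq_mul, ← mul_assoc,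
        ← h3, mul_inv_cancel_right]
    rw [this]
    exact mul_mem (hH c' hc') (inv_mem (hH c hc))
  have ha : a = a' := sub_eq_zero.1 (xg_inj hF hα (h4.trans (hF.xg_zero _).symm))
  subst ha
  refine ⟨rfl, xg_inj hF hα h2, ?_⟩
  have h5 := hg_conj hF i (Units.mk0 c hc) hα 1
  have h6 := hg_conj hF i (Units.mk0 c' hc') hα 1
  rw [Units.val_mk0] at h5 h6
  rw [mul_left_cancel h3, h6, hF.cartan_simple i.val i.isLt] at h5
  have h7 := xg_inj hF hα h5
  simpa [zpow_ofNat] using h7.symm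

/-- x(a) x₋(b) x(a) exchanges the two root subgroups only if ab = -1. -/
theorem exchange_eq (i : Fin D.rank) {a b v : F}
    (h : hF.xg (D.simple i.val) a * hF.xg (D.neg (D.simple i.val)) b * hF.xg (D.simple i.val) a *
        hF.xg (D.simple i.val) 1 *
      (hF.xg (D.simple i.val) a * hF.xg (D.neg (D.simple i.val)) b * hF.xg (D.simple i.val) a)⁻¹ =
      hF.xg (D.neg (D.simple i.val)) v) : a * b = -1 := by
  have hα := hF.simple_lt i i.isLt
  by_cases hb : b = 0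
  · exfalso
    subst hb
    rw [hF.xg_zero, mul_one, show hF.xg (D.simple i.val) a * hF.xg (D.simple i.val) a *
        hF.xg (D.simple i.val) 1 * (hF.xg (D.simple i.val) a * hF.xg (D.simple i.val) a)⁻¹ =
        hF.xg (D.simple i.val) 1 by
      rw [mul_inv_eq_iff_eq_mul, ← hF.xg_add, ← hF.xg_add, ← hF.xg_add, add_comm]] at h
    exact simple_ne_neg hF i i (xg_root_inj hF hα (hF.neg_lt hα) one_ne_zero h)
  set s := a + b⁻¹ with hs
  have hc : -b⁻¹ ≠ 0 := neg_ne_zero.2 (inv_ne_zero hb)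
  have hw : hF.xg (D.simple i.val) a * hF.xg (D.neg (D.simple i.val)) b * hF.xg (D.simple i.val) a =
      hF.xg (D.simple i.val) s * hF.ng (D.simple i.val) (-b⁻¹) * hF.xg (D.simple i.val) s := by
    rw [hs, neg_root_eq hF i hb, hF.xg_add]
    conv_rhs => enter [2]; rw [← hF.xg_add, add_comm, hF.xg_add]
    group
  have hcancel : hF.xg (D.simple i.val) s * hF.xg (D.simple i.val) 1 * (hF.xg (D.simple i.val) s)⁻¹ =
      hF.xg (D.simple i.val) 1 := by
    rw [mul_inv_eq_iff_eq_mul, ← hF.xg_add, ← hF.xg_add, add_comm]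
  rw [hw, show hF.xg (D.simple i.val) s * hF.ng (D.simple i.val) (-b⁻¹) * hF.xg (D.simple i.val) s *
      hF.xg (D.simple i.val) 1 *
      (hF.xg (D.simple i.val) s * hF.ng (D.simple i.val) (-b⁻¹) * hF.xg (D.simple i.val) s)⁻¹ =
      hF.xg (D.simple i.val) s * (hF.ng (D.simple i.val) (-b⁻¹) *
        (hF.xg (D.simple i.val) s * hF.xg (D.simple i.val) 1 * (hF.xg (D.simple i.val) s)⁻¹) *
        (hF.ng (D.simple i.val) (-b⁻¹))⁻¹) * (hF.xg (D.simple i.val) s)⁻¹ by group, hcancel,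
    ng_conj_pos hF i hc] at h
  set u := -(1 / (-b⁻¹) ^ 2) with hu
  have hu0 : u ≠ 0 := by
    rw [hu]
    exact neg_ne_zero.2 (div_ne_zero one_ne_zero (pow_ne_zero _ hc))
  have hv0 : v ≠ 0 := by
    rintro rfl
    rw [hF.xg_zero, conj_eq_one_iff] at h
    exact xg_ne_one hF (hF.neg_lt hα) hu0 h
  rw [neg_root_eq hF i hu0, neg_root_eq hF i hv0, ← hF.xg_neg,
    show hF.xg (D.simple i.val) s * (hF.xg (D.simple i.val) u⁻¹ * hF.ng (D.simple i.val) (-u⁻¹) *
      hF.xg (D.simple i.val) u⁻¹) * hF.xg (D.simple i.val) (-s) =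
      (hF.xg (D.simple i.val) s * hF.xg (D.simple i.val) u⁻¹) * hF.ng (D.simple i.val) (-u⁻¹) *
      (hF.xg (D.simple i.val) u⁻¹ * hF.xg (D.simple i.val) (-s)) by group,
    ← hF.xg_add, ← hF.xg_add] at h
  obtain ⟨h1, h2, h3⟩ := rank_one_unique hF i (neg_ne_zero.2 (inv_ne_zero hu0))
    (neg_ne_zero.2 (inv_ne_zero hv0)) h
  have hs0 : s = 0 := by
    by_cases h2' : (2 : F) = 0
    · have huv : u = v := by
        have h4 : (u⁻¹ - v⁻¹) ^ 2 = 0 := by linear_combination h3 - u⁻¹ * v⁻¹ * h2' + v⁻¹ ^ 2 * h2'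
        exact inv_injective (sub_eq_zero.1 (pow_eq_zero_iff two_ne_zero |>.1 h4))
      rw [huv] at h1
      linear_combination h1
    · have h5 : (2 : F) * s = 0 := by linear_combination h1 - h2
      exact (mul_eq_zero.1 h5).resolve_left h2'
  rw [hs] at hs0
  rw [eq_neg_of_add_eq_zero_left hs0, neg_mul, inv_mul_cancel₀ hb]

/-- The two simple root groups of one node do not commute. -/
theorem not_commute (i : Fin D.rank) {t : F} (ht : t ≠ 0) :
    ¬ Commute (hF.xg (D.simple i.val) 1) (hF.xg (D.neg (D.simple i.val)) t) := by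
  intro h
  have h1 := h.eq
  rw [neg_root_eq hF i ht, show hF.xg (D.simple i.val) 1 * (hF.xg (D.simple i.val) t⁻¹ *
      hF.ng (D.simple i.val) (-t⁻¹) * hF.xg (D.simple i.val) t⁻¹) =
      (hF.xg (D.simple i.val) 1 * hF.xg (D.simple i.val) t⁻¹) *
      hF.ng (D.simple i.val) (-t⁻¹) * hF.xg (D.simple i.val) t⁻¹ by group,
    show hF.xg (D.simple i.val) t⁻¹ * hF.ng (D.simple i.val) (-t⁻¹) * hF.xg (D.simple i.val) t⁻¹ *
      hF.xg (D.simple i.val) 1 = hF.xg (D.simple i.val) t⁻¹ * hF.ng (D.simple i.val) (-t⁻¹) *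
      (hF.xg (D.simple i.val) t⁻¹ * hF.xg (D.simple i.val) 1) by group,
    ← hF.xg_add, ← hF.xg_add] at h1
  obtain ⟨-, h2, -⟩ := rank_one_unique hF i (neg_ne_zero.2 (inv_ne_zero ht))
    (neg_ne_zero.2 (inv_ne_zero ht)) h1
  exact one_ne_zero (add_left_cancel (h2.symm.trans (add_zero t⁻¹).symm))

/-! ### The two unipotent subgroups -/

include hF in
theorem U_inter_V {g : GL D.Idx F} (hU : g ∈ D.posUnipotent F) (hV : g ∈ D.negUnipotent F) : g = 1 := by
  rw [← hF.tsys_U] at hU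
  exact hF.B_inter_V ((hF.tsys F).U_le_B hU) hV

/-- A product b n_w u whose conjugate of U meets U trivially lies in the longest cell. -/
theorem longest_of_trivial_meet (w : hF.weyl)
    (h : ∀ z ∈ D.posUnipotent F, ((hF.tsys F).nW w)⁻¹ * z * (hF.tsys F).nW w ∈ D.posUnipotent F → z = 1) :
    ∀ r : Fin D.nroots, r ∈ hF.refSys.P → w • r ∉ hF.refSys.P := by
  intro r hr hwr
  obtain ⟨e, he, heq⟩ := hF.nW_conj (F := F) w r
  have hr' : D.nroots / 2 ≤ r.val := by simpa [Facts.refSys] using hr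
  have hw' : D.nroots / 2 ≤ (w • r : Fin D.nroots).val := by simpa [Facts.refSys] using hwr
  have hU : ∀ {s : ℕ} (_ : D.nroots / 2 ≤ s) (_ : s < D.nroots) (z : F), hF.xg s z ∈ D.posUnipotent F := by
    intro s h1 h2 z
    rw [← hF.tsys_U]
    exact (hF.tsys F).x_mem_U h1 h2 z
  have h1 := h _ (hU hw' (Fin.isLt _) (e * 1)) (by
    rw [← heq 1, show ((hF.tsys F).nW w)⁻¹ * ((hF.tsys F).nW w * hF.xg r.val 1 * ((hF.tsys F).nW w)⁻¹) *
      (hF.tsys F).nW w = hF.xg r.val 1 by group]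
    exact hU hr' r.isLt 1)
  rw [← heq 1, conj_eq_one_iff] at h1
  exact xg_ne_one hF r.isLt one_ne_zero h1

/-- B normalises U. -/
theorem B_conj_U {b u : GL D.Idx F} (hb : b ∈ (hF.tsys F).B) (hu : u ∈ D.posUnipotent F) :
    b * u * b⁻¹ ∈ D.posUnipotent F := by
  rw [← hF.tsys_U] at hu ⊢
  have h : (hF.tsys F).B ≤ Subgroup.normalizer ((hF.tsys F).U : Set (GL D.Idx F)) :=
    sup_le Subgroup.le_normalizer (hF.tsys F).H_le_normalizer_U
  exact (Subgroup.mem_normalizer_iff.1 (h hb) u).1 hu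

include hF in
/-- The elements normalising U lie in B. -/
theorem mem_B_of_normalizes {g : GL D.Idx F} (hg : g ∈ D.group F)
    (h : ∀ u ∈ D.posUnipotent F, g * u * g⁻¹ ∈ D.posUnipotent F) : g ∈ (hF.tsys F).B := by
  obtain ⟨b, hb, w, u, hu, rfl⟩ := hF.mem_bnu hg
  have huU : u ∈ (hF.tsys F).U :=
    CommSys.US_mono _ (fun r hr => Facts.mem_posL.2 ((TorusSys.closed_invList w).mem_pos r hr)) hu
  have hnorm : ∀ z ∈ D.posUnipotent F,
      (hF.tsys F).nW w * z * ((hF.tsys F).nW w)⁻¹ ∈ D.posUnipotent F := by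
    intro z hz
    have hz' : u⁻¹ * z * u ∈ D.posUnipotent F := by
      rw [← hF.tsys_U] at hz ⊢
      exact mul_mem (mul_mem (inv_mem huU) hz) huU
    have h1 := B_conj_U hF (inv_mem hb) (h _ hz')
    rwa [show b⁻¹ * (b * (hF.tsys F).nW w * u * (u⁻¹ * z * u) * (b * (hF.tsys F).nW w * u)⁻¹) * b⁻¹⁻¹ =
      (hF.tsys F).nW w * z * ((hF.tsys F).nW w)⁻¹ by group] at h1
  have hw : w = 1 := by
    refine hF.refSys.eq_one_of_len_eq_zero (Finset.card_eq_zero.2 (Finset.eq_empty_iff_forall_notMem.2 ?_))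
    intro r hr
    obtain ⟨hr1, hr2⟩ := (RefSystem.mem_inv _).1 hr
    obtain ⟨e, he, heq⟩ := hF.nW_conj (F := F) w r
    have hr' : D.nroots / 2 ≤ r.val := by simpa [Facts.refSys] using hr1
    have h1 := hnorm (hF.xg r.val 1) (by rw [← hF.tsys_U]; exact (hF.tsys F).x_mem_U hr' r.isLt 1)
    have h2 : (hF.tsys F).nW w * hF.xg r.val 1 * ((hF.tsys F).nW w)⁻¹ ∈ D.negUnipotent F := by
      rw [show (hF.tsys F).nW w * hF.xg r.val 1 * ((hF.tsys F).nW w)⁻¹ = _ from heq 1]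
      exact hF.x_mem_negUnipotent (by simpa [Facts.refSys] using hr2) _
    have h3 := U_inter_V hF h1 h2
    rw [conj_eq_one_iff] at h3
    exact xg_ne_one hF r.isLt one_ne_zero h3
  subst hw
  exact mul_mem (mul_mem hb ((hF.tsys F).H_le_B (hF.tsys F).nW_one)) ((hF.tsys F).U_le_B huU)

include hF in
/-- H normalises V. -/
theorem H_conj_V {a v : GL D.Idx F} (ha : a ∈ (hF.tsys F).H) (hv : v ∈ D.negUnipotent F) :
    a * v * a⁻¹ ∈ D.negUnipotent F := by
  have h : D.negUnipotent F ≤ (D.negUnipotent F).comap (MulAut.conj a).toMonoidHom := by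
    refine hF.negUnipotent_le fun r hr t => ?_
    obtain ⟨u, hu⟩ := ((hF.tsys F).H_conj_X ha (s := r) (by omega) t).1
    show a * hF.xg r t * a⁻¹ ∈ D.negUnipotent F
    rw [← hF.tsys_x r t, hu, hF.tsys_x]
    exact hF.x_mem_negUnipotent hr u
  exact h hv

/-- A fixed element of the Weyl group sending all positive roots to negative roots. -/
noncomputable def w0 : hF.weyl := hF.exists_longest.choose

theorem w0_spec : ∀ r : Fin D.nroots, r ∈ hF.refSys.P → w0 hF • r ∉ hF.refSys.P :=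
  hF.exists_longest.choose_spec

theorem w0_neg {r : Fin D.nroots} (hr : r ∉ hF.refSys.P) : w0 hF • r ∈ hF.refSys.P := by
  have := w0_spec hF (hF.refSys.neg r) ((hF.refSys.neg_mem r).2 hr)
  rwa [RefSystem.smul_neg, hF.refSys.neg_mem, not_not] at this

theorem w0_inv : (w0 hF)⁻¹ = w0 hF := by
  have hfix : ∀ r, r ∈ hF.refSys.P → (w0 hF * w0 hF) • r ∈ hF.refSys.P := fun r hr => by
    rw [mul_smul]
    exact w0_neg hF (w0_spec hF r hr)
  refine inv_eq_of_mul_eq_one_right (hF.refSys.eq_one_of_len_eq_zero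
    (Finset.card_eq_zero.2 (Finset.eq_empty_iff_forall_notMem.2 fun r hr => ?_)))
  obtain ⟨h1, h2⟩ := (RefSystem.mem_inv _).1 hr
  exact h2 (hfix r h1)

theorem n0_V {v : GL D.Idx F} (hv : v ∈ D.negUnipotent F) :
    (hF.tsys F).nW (w0 hF) * v * ((hF.tsys F).nW (w0 hF))⁻¹ ∈ D.posUnipotent F := by
  have h : D.negUnipotent F ≤
      (D.posUnipotent F).comap (MulAut.conj ((hF.tsys F).nW (w0 hF))).toMonoidHom := by
    refine hF.negUnipotent_le fun r hr t => ?_
    obtain ⟨e, -, heq⟩ := hF.nW_conj (F := F) (w0 hF) ⟨r, by omega⟩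
    show (hF.tsys F).nW (w0 hF) * hF.xg r t * ((hF.tsys F).nW (w0 hF))⁻¹ ∈ D.posUnipotent F
    rw [show (hF.tsys F).nW (w0 hF) * hF.xg r t * ((hF.tsys F).nW (w0 hF))⁻¹ = _ from heq t, ← hF.tsys_U]
    refine (hF.tsys F).x_mem_U ?_ (Fin.isLt _) _
    simpa [Facts.refSys] using w0_neg hF (r := ⟨r, by omega⟩) (by simp [Facts.refSys]; omega)
  exact h hv

theorem n0_U {u : GL D.Idx F} (hu : u ∈ D.posUnipotent F) :
    (hF.tsys F).nW (w0 hF) * u * ((hF.tsys F).nW (w0 hF))⁻¹ ∈ D.negUnipotent F := by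
  rw [← hF.conj_longest (w0_spec hF)]
  exact ⟨u, hu, rfl⟩

theorem n0_U_inv {u : GL D.Idx F} (hu : u ∈ D.posUnipotent F) :
    ((hF.tsys F).nW (w0 hF))⁻¹ * u * (hF.tsys F).nW (w0 hF) ∈ D.negUnipotent F := by
  have h : D.posUnipotent F ≤
      (D.negUnipotent F).comap (MulAut.conj ((hF.tsys F).nW (w0 hF))⁻¹).toMonoidHom := by
    rw [hF.posUnipotent_eq F]
    refine CommSys.US_le _ fun r hr t => ?_
    obtain ⟨h1, h2⟩ := Facts.mem_posL.1 hr
    obtain ⟨z, hz⟩ := hF.nW_conj' (F := F) (w0 hF) ((w0 hF)⁻¹ • ⟨r, h2⟩) t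
    rw [smul_inv_smul] at hz
    show ((hF.tsys F).nW (w0 hF))⁻¹ * hF.xg r t * ((hF.tsys F).nW (w0 hF))⁻¹⁻¹ ∈ D.negUnipotent F
    rw [show hF.xg r t = _ from hz]
    simp only [inv_inv]
    rw [show ∀ n y : GL D.Idx F, n⁻¹ * (n * y * n⁻¹) * n = y from fun n y => by group]
    refine hF.x_mem_negUnipotent ?_ _
    have h3 := w0_spec hF ⟨r, h2⟩ (by simp [Facts.refSys, h1])
    rw [w0_inv hF]
    simpa [Facts.refSys] using h3
  have := h hu
  simpa using this

include hF in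
/-- The common normaliser of U and V is H. -/
theorem mem_H_of_normalizes {g : GL D.Idx F} (hg : g ∈ D.group F)
    (hU : ∀ u ∈ D.posUnipotent F, g * u * g⁻¹ ∈ D.posUnipotent F)
    (hV : ∀ v ∈ D.negUnipotent F, g * v * g⁻¹ ∈ D.negUnipotent F) : g ∈ (hF.tsys F).H := by
  obtain ⟨u, hu, a, ha, rfl⟩ := (hF.tsys F).mem_B.1 (mem_B_of_normalizes hF hg hU)
  set n0 := (hF.tsys F).nW (w0 hF) with hn0
  have huV : ∀ v ∈ D.negUnipotent F, u * v * u⁻¹ ∈ D.negUnipotent F := by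
    intro v hv
    have h1 := hV _ (H_conj_V hF (inv_mem ha) hv)
    rwa [show u * a * (a⁻¹ * v * a⁻¹⁻¹) * (u * a)⁻¹ = u * v * u⁻¹ by group] at h1
  have hG : n0 ∈ D.group F := hF.nW_mem_group _
  have huG : u ∈ D.group F := hF.borel_le_group (by rw [← hF.tsys_B]; exact (hF.tsys F).U_le_B hu)
  have hk : n0 * u * n0⁻¹ ∈ (hF.tsys F).B := by
    refine mem_B_of_normalizes hF (mul_mem (mul_mem hG huG) (inv_mem hG)) fun z hz => ?_
    have h1 := n0_V hF (huV _ (n0_U_inv hF hz))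
    rwa [show n0 * (u * (n0⁻¹ * z * n0) * u⁻¹) * n0⁻¹ = n0 * u * n0⁻¹ * z * (n0 * u * n0⁻¹)⁻¹ by group] at h1
  have huU : u ∈ D.posUnipotent F := by rw [← hF.tsys_U]; exact hu
  have h2 := hF.B_inter_V hk (n0_U hF huU)
  rw [conj_eq_one_iff] at h2
  subst h2
  simpa using ha

end Cfsg.Agent.Small.ChevAut
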