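import Cfsg.Agent.Lib.Small.ChevAut.Structure
import Cfsg.Agent.Lib.Lie.TorusCerts

/-!
The decomposition of an automorphism, the structure and the order of the outer automorphism group.
-/

set_option autoImplicit false
set_option synthInstance.maxHeartbeats 400000
set_option linter.style.haveILetI false

namespace Cfsg.Agent.Small.ChevAut

open Cfsg Cfsg.Lie Cfsg.Agent.Lie
open scoped MatrixGroups commutatorElement

variable {F : Type*} [Field F] [Finite F]

/-- Every automorphism is inner times diagonal times graph times field. -/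
theorem decomp {D : ChevalleyDatum} (A : AutData D) (θ : MulAut ↥(D.group F)) :
    ∃ (x : ↥(D.group F)) (d g f : ↥(D.group F) ≃* ↥(D.group F)),
      D.IsDiagonalAut d ∧ D.IsGraphAut g ∧ D.IsFieldAut f ∧ ∀ y : ↥(D.group F), θ y = x * d (g (f y)) * x⁻¹ := by
  obtain ⟨x, hx⟩ := exists_std A.hF θ
  obtain ⟨π, c, φ, h⟩ := A.exists_nf hx
  obtain ⟨σ, hσ, hsym⟩ := h.common
  set θ₁ := (MulAut.conj x)⁻¹ * θ with hθ₁
  set d : MulAut ↥(D.group F) := A.dAut fun j => c (π.symm j) with hd
  set f : MulAut ↥(D.group F) := A.fAut σ with hf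
  have hfsymm : ∀ r t, f.symm (xG A.hF r t) = xG A.hF r (σ.symm t) := fun r t => by
    rw [MulEquiv.symm_apply_eq, hf, A.fAut_xG, RingEquiv.apply_symm_apply]
  refine ⟨x, d, d⁻¹ * θ₁ * f⁻¹, f, A.dAut_isDiagonal _, ⟨π, hsym, fun z i t => ⟨fun hz => ?_, fun hz => ?_⟩⟩,
    A.fAut_isField σ, fun y => ?_⟩
  · rw [(eq_xG A.hF).1 hz, MulAut.mul_apply, MulAut.mul_apply, MulAut.inv_def, MulAut.inv_def, hfsymm,
      (h i _).1, hσ i, RingEquiv.apply_symm_apply]
    refine (eq_xG A.hF).2 ?_
    rw [MulEquiv.symm_apply_eq, (A.dAut_NF (fun j => c (π.symm j)) (π i) _).1]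
    simp
  · rw [(eq_xG A.hF).1 hz, MulAut.mul_apply, MulAut.mul_apply, MulAut.inv_def, MulAut.inv_def, hfsymm,
      (h i _).2, hσ i, RingEquiv.apply_symm_apply]
    refine (eq_xG A.hF).2 ?_
    rw [MulEquiv.symm_apply_eq, (A.dAut_NF (fun j => c (π.symm j)) (π i) _).2]
    simp
  · show θ y = x * (d (d.symm (θ₁ (f.symm (f y))))) * x⁻¹
    rw [MulEquiv.apply_symm_apply, MulEquiv.symm_apply_apply, hθ₁, MulAut.mul_apply, MulAut.inv_def,
      MulAut.conj_symm_apply]
    group

theorem psi_G2_eq_one (A : AutData chevG2) (h3 : ringChar F ≠ 3) (hq : Nat.card F ≠ 2)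
    (θ : ↥(Std chevG2 F)) : A.psi θ = 1 := by
  obtain ⟨c, φ, h⟩ := A.psi_nf θ
  have hm : permList (A.psi θ) ∈ autos chevG2 2 := h.mem_autos
  rw [autos_G2] at hm
  simp only [List.mem_cons, List.not_mem_nil, or_false] at hm
  have e0 := permList_getD (A.psi θ) ⟨0, by decide⟩
  have e1 := permList_getD (A.psi θ) ⟨1, by decide⟩
  rcases hm with hm | hm <;> rw [hm] at e0 e1
  · refine Equiv.ext fun i => ?_
    match i with
    | ⟨0, _⟩ => exact Fin.ext e0.symm
    | ⟨1, _⟩ => exact Fin.ext e1.symm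
  · have hrel : ∀ t, φ ⟨0, by decide⟩ t = φ ⟨1, by decide⟩ t ^ 3 := fun t =>
      h.rel_pow (i := ⟨1, by decide⟩) (j := ⟨0, by decide⟩) (by decide +kernel) (by omega)
        (by rw [← e0, ← e1]; decide +kernel) t
    refine absurd (three_of_cube_additive fun a b => ?_) (not_or.2 ⟨h3, hq⟩)
    obtain ⟨a', rfl⟩ := (φ ⟨1, by decide⟩).surjective a
    obtain ⟨b', rfl⟩ := (φ ⟨1, by decide⟩).surjective b
    rw [← map_add, ← hrel, ← hrel, ← hrel, map_add]

theorem psi_F4_eq_one (A : AutData chevF4) (h2 : ringChar F ≠ 2) (θ : ↥(Std chevF4 F)) : A.psi θ = 1 := by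
  obtain ⟨c, φ, h⟩ := A.psi_nf θ
  have hm : permList (A.psi θ) ∈ autos chevF4 4 := h.mem_autos
  rw [autos_F4] at hm
  simp only [List.mem_cons, List.not_mem_nil, or_false] at hm
  have e0 := permList_getD (A.psi θ) ⟨0, by decide⟩
  have e1 := permList_getD (A.psi θ) ⟨1, by decide⟩
  have e2 := permList_getD (A.psi θ) ⟨2, by decide⟩
  have e3 := permList_getD (A.psi θ) ⟨3, by decide⟩
  rcases hm with hm | hm <;> rw [hm] at e0 e1 e2 e3
  · refine Equiv.ext fun i => ?_
    match i with
    | ⟨0, _⟩ => exact Fin.ext e0.symm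
    | ⟨1, _⟩ => exact Fin.ext e1.symm
    | ⟨2, _⟩ => exact Fin.ext e2.symm
    | ⟨3, _⟩ => exact Fin.ext e3.symm
  · have hrel : ∀ t, φ ⟨1, by decide⟩ t = φ ⟨2, by decide⟩ t ^ 2 := fun t =>
      h.rel_pow (i := ⟨2, by decide⟩) (j := ⟨1, by decide⟩) (by decide +kernel) (by omega)
        (by rw [← e1, ← e2]; decide +kernel) t
    refine absurd (two_of_sq_additive fun a b => ?_) h2
    obtain ⟨a', rfl⟩ := (φ ⟨2, by decide⟩).surjective a
    obtain ⟨b', rfl⟩ := (φ ⟨2, by decide⟩).surjective b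
    rw [← map_add, ← hrel, ← hrel, ← hrel, map_add]

/-- Triality and a transposition of the outer nodes. -/
theorem psi_D4 (A : AutData chevD4) :
    6 = Nat.card (A.psi (F := F)).range ∧ ∃ a b : ↥(Std chevD4 F), ¬ Commute (A.psi a) (A.psi b) := by
  obtain ⟨a, ha⟩ := A.exists_psi_ne (modField_zero F) okMap_D4a okPos_D4a okOrder_D4a (RingHom.id F)
    (fun t => (pow_one t).symm) okNodes_D4a (by decide)
  obtain ⟨b, hb⟩ := A.exists_psi_ne (modField_zero F) okMap_D4c okPos_D4c okOrder_D4c (RingHom.id F)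
    (fun t => (pow_one t).symm) okNodes_D4c (by decide)
  set P := A.psi a with hP
  set Q := A.psi b with hQ
  have pa : ∀ i, P i = ⟨[2, 1, 3, 0].getD i.val 0, ha i ▸ (P i).isLt⟩ := fun i => Fin.ext (ha i)
  have pb : ∀ i, Q i = ⟨[0, 1, 3, 2].getD i.val 0, hb i ▸ (Q i).isLt⟩ := fun i => Fin.ext (hb i)
  let key : Equiv.Perm (Fin chevD4.rank) → ℕ × ℕ := fun π =>
    ((π ⟨0, by decide⟩).val, (π ⟨2, by decide⟩).val)
  refine ⟨le_antisymm ?_ ?_, a, b, fun hc => ?_⟩
  · let L : List (Equiv.Perm (Fin chevD4.rank)) := [1, P, P * P, Q, P * Q, Q * P]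
    have hkey : L.map key = [(0, 2), (2, 3), (3, 0), (0, 3), (2, 0), (3, 2)] := by
      simp [L, key, pa, pb]
    have hmem : ∀ x ∈ L, x ∈ (A.psi (F := F)).range := by
      have h1 : P ∈ (A.psi (F := F)).range := ⟨a, rfl⟩
      have h2 : Q ∈ (A.psi (F := F)).range := ⟨b, rfl⟩
      intro x hx
      simp only [L, List.mem_cons, List.not_mem_nil, or_false] at hx
      rcases hx with rfl | rfl | rfl | rfl | rfl | rfl
      exacts [one_mem _, h1, mul_mem h1 h1, h2, mul_mem h1 h2, mul_mem h2 h1]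
    have hnd : L.Nodup := List.Nodup.of_map key (by rw [hkey]; decide)
    classical
    calc 6 = L.toFinset.card := by rw [List.toFinset_card_of_nodup hnd]; rfl
      _ = Nat.card {x // x ∈ L.toFinset} := (Nat.card_eq_finsetCard _).symm
      _ ≤ _ := Nat.card_le_card_of_injective (fun x => (⟨x.1, hmem _ (List.mem_toFinset.1 x.2)⟩ :
          (A.psi (F := F)).range)) fun x y h => Subtype.ext (congrArg (fun z => z.1) h)
  · exact A.card_range_le.trans (by rw [show chevD4.rank = 4 from rfl, autos_D4]; rfl)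
  · have hc' : Commute P Q := hc
    have h1 := congrArg (fun π : Equiv.Perm (Fin chevD4.rank) => (π ⟨0, by decide⟩).val) hc'.eq
    simp [pa, pb] at h1

theorem psi_card_small {D : ChevalleyDatum} (A : AutData D) (h : (autos D D.rank).length ≤ 2) :
    Nat.card (A.psi (F := F)).range = 1 ∨ Nat.card (A.psi (F := F)).range = 2 := by
  have h1 := A.card_range_le (F := F)
  have h2 : 0 < Nat.card (A.psi (F := F)).range := Nat.card_pos
  omega

/-- The image of the action on the nodes has order 1, 2 or 6, not commutative in the last case. -/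
theorem psi_card {D : ChevalleyDatum} (A : AutData D) :
    Nat.card (A.psi (F := F)).range = 1 ∨ Nat.card (A.psi (F := F)).range = 2 ∨
      (Nat.card (A.psi (F := F)).range = 6 ∧ ∃ a b : ↥(Std D F), ¬ Commute (A.psi a) (A.psi b)) := by
  have hD := A.mem
  simp only [List.mem_cons, List.not_mem_nil, or_false] at hD
  rcases hD with rfl | rfl | rfl | rfl | rfl | rfl | rfl
  · exact (psi_card_small A (by rw [show chevG2.rank = 2 from rfl, autos_G2]; decide)).imp_right Or.inl
  · exact (psi_card_small A (by rw [show chevB2.rank = 2 from rfl, autos_B2]; decide)).imp_right Or.inl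
  · exact Or.inr (Or.inr ⟨(psi_D4 A).1.symm, (psi_D4 A).2⟩)
  · exact (psi_card_small A (by rw [show chevF4.rank = 4 from rfl, autos_F4]; decide)).imp_right Or.inl
  · exact (psi_card_small A (by rw [show chevE6.rank = 6 from rfl, autos_E6]; decide)).imp_right Or.inl
  · exact (psi_card_small A (by rw [show chevE7.rank = 7 from rfl, autos_E7]; decide)).imp_right Or.inl
  · exact (psi_card_small A (by rw [show chevE8.rank = 8 from rfl, autos_E8]; decide)).imp_right Or.inl

theorem out_G2 {p f : ℕ} [Fact p.Prime] [CharP F p] (hF : Nat.card F = p ^ f) (hq : 3 ≤ p ^ f) :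
    Nat.card (Cfsg.Out ↥(chevG2.group F)) = (if p = 3 then 2 * f else f) := by
  haveI := Fintype.ofFinite F
  obtain ⟨A⟩ := autData_of_mem (D := chevG2) (by simp)
  have hr := ringChar.eq F p
  rw [A.card_out_eq kerCertG2, card_ringAut (p := p) (f := f) (by rw [← Nat.card_eq_fintype_card]; exact hF)]
  simp only [Finset.univ_eq_empty, Finset.prod_empty, one_mul]
  split_ifs with hp
  · subst hp
    obtain ⟨θ, hθ⟩ := A.exists_psi_ne (F := F) (modField_prime F 3 (Finite.injective_iff_surjective.1 (frobenius_inj F 3))) okMap_G2 okPos_G2 okOrder_G2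
      (frobenius F 3) (fun t => frobenius_def 3 t) okNodes_G2 (by decide)
    rw [A.card_range_eq_two (by rw [show chevG2.rank = 2 from rfl, autos_G2]; decide) (θ := θ) (fun h => by
      have := hθ ⟨0, by decide⟩
      rw [h] at this
      simp at this), mul_comm]
  · rw [A.card_range_eq_one (psi_G2_eq_one A (by rwa [hr]) (by omega)), mul_one]

theorem out_F4 {p f : ℕ} [Fact p.Prime] [CharP F p] (hF : Nat.card F = p ^ f) :
    Nat.card (Cfsg.Out ↥(chevF4.group F)) = Nat.gcd 2 p * f := by
  haveI := Fintype.ofFinite F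
  obtain ⟨A⟩ := autData_of_mem (D := chevF4) (by simp)
  have hr := ringChar.eq F p
  rw [A.card_out_eq kerCertF4, card_ringAut (p := p) (f := f) (by rw [← Nat.card_eq_fintype_card]; exact hF)]
  simp only [Finset.univ_eq_empty, Finset.prod_empty, one_mul]
  by_cases hp : p = 2
  · subst hp
    obtain ⟨θ, hθ⟩ := A.exists_psi_ne (F := F) (modField_prime F 2 (Finite.injective_iff_surjective.1 (frobenius_inj F 2))) okMap_F4 okPos_F4 okOrder_F4
      (frobenius F 2) (fun t => frobenius_def 2 t) okNodes_F4 (by decide)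
    rw [A.card_range_eq_two (by rw [show chevF4.rank = 4 from rfl, autos_F4]; decide) (θ := θ) (fun h => by
      have := hθ ⟨0, by decide⟩
      rw [h] at this
      simp at this), mul_comm, Nat.gcd_self]
  · rw [A.card_range_eq_one (psi_F4_eq_one A (by rwa [hr])), mul_one,
      show Nat.gcd 2 p = 1 from (Nat.coprime_primes Nat.prime_two Fact.out).2 (Ne.symm hp), one_mul]

theorem out_E6 {p f : ℕ} [Fact p.Prime] [CharP F p] (hF : Nat.card F = p ^ f) :
    Nat.card (Cfsg.Out ↥(chevE6.group F)) = 2 * Nat.gcd 3 (p ^ f - 1) * f := by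
  haveI := Fintype.ofFinite F
  obtain ⟨A⟩ := autData_of_mem (D := chevE6) (by simp)
  rw [A.card_out_eq kerCertE6, card_ringAut (p := p) (f := f) (by rw [← Nat.card_eq_fintype_card]; exact hF), hF]
  obtain ⟨θ, hθ⟩ := A.exists_psi_ne (F := F) (modField_zero F) okMap_E6 okPos_E6 okOrder_E6
    (RingHom.id F) (fun t => (pow_one t).symm) okNodes_E6 (by decide)
  rw [A.card_range_eq_two (by rw [show chevE6.rank = 6 from rfl, autos_E6]; decide) (θ := θ) (fun h => by
    have := hθ ⟨0, by decide⟩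
    rw [h] at this
    simp at this)]
  simp only [Fin.prod_univ_one, Matrix.cons_val_fin_one]
  ring

theorem out_E7 {p f : ℕ} [Fact p.Prime] [CharP F p] (hF : Nat.card F = p ^ f) :
    Nat.card (Cfsg.Out ↥(chevE7.group F)) = Nat.gcd 2 (p ^ f - 1) * f := by
  haveI := Fintype.ofFinite F
  obtain ⟨A⟩ := autData_of_mem (D := chevE7) (by simp)
  rw [A.card_out_eq kerCertE7, card_ringAut (p := p) (f := f) (by rw [← Nat.card_eq_fintype_card]; exact hF), hF,
    A.card_range_eq_one (A.psi_eq_one_of_single (by rw [show chevE7.rank = 7 from rfl, autos_E7]; decide))]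
  simp only [Fin.prod_univ_one, Matrix.cons_val_fin_one, mul_one]

theorem out_E8 {p f : ℕ} [Fact p.Prime] [CharP F p] (hF : Nat.card F = p ^ f) :
    Nat.card (Cfsg.Out ↥(chevE8.group F)) = f := by
  haveI := Fintype.ofFinite F
  obtain ⟨A⟩ := autData_of_mem (D := chevE8) (by simp)
  rw [A.card_out_eq kerCertE8, card_ringAut (p := p) (f := f) (by rw [← Nat.card_eq_fintype_card]; exact hF),
    A.card_range_eq_one (A.psi_eq_one_of_single (by rw [show chevE8.rank = 8 from rfl, autos_E8]; decide))]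
  simp only [Finset.univ_eq_empty, Finset.prod_empty, one_mul, mul_one]

end Cfsg.Agent.Small.ChevAut
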