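import Cfsg.Agent.Lib.Small.ChevAut.Results
import Cfsg.Agent.Lib.Lie.RepD4
import Cfsg.Agent.Lib.Classical.OrthOmega

/-!
The outer automorphism group of the group of type D4: permutations of the four classes of diagonal
automorphisms extended by the outer nodes, times the field automorphisms.
-/

set_option autoImplicit false
set_option synthInstance.maxHeartbeats 400000
set_option linter.style.haveILetI false
set_option linter.unusedSectionVars false

namespace Cfsg.Agent.Small.ChevAut.OutD4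

open Cfsg Cfsg.Lie Cfsg.Agent.Lie

universe u

/-- The nodes. -/
abbrev Nd := Fin chevD4.rank

/-- The central node. -/
abbrev ctr : Nd := ⟨1, by decide⟩

/-- The classes of diagonal automorphisms as even sign vectors on the outer nodes. -/
abbrev Pts := {v : Nd → ℤˣ // v ctr = 1 ∧ ∏ i, v i = 1}

/-- The point of a sign vector. -/
def pt (s : Nd → ℤˣ) : Nd → ℤˣ := fun i => if i = ctr then 1 else s i * s ctr * ∏ k, s k

theorem pt_mem : ∀ s : Nd → ℤˣ, pt s ctr = 1 ∧ ∏ i, pt s i = 1 := by decide +kernel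

theorem pt_mul : ∀ s t : Nd → ℤˣ, ∀ i, pt (fun k => s k * t k) i = pt s i * pt t i := by decide +kernel

theorem pt_comp : ∀ π : Equiv.Perm Nd, π ctr = ctr → ∀ s : Nd → ℤˣ, ∀ i, pt (fun k => s (π k)) i = pt s (π i) := by
  decide +kernel

theorem pt_eq_one : ∀ s : Nd → ℤˣ, (∀ i, pt s i = 1) → ∀ i, i ≠ ctr → s i * (s ⟨0, by decide⟩ * s ⟨2, by decide⟩ * s ⟨3, by decide⟩) = 1 := by
  decide +kernel

theorem faithful : ∀ π : Equiv.Perm Nd, π ctr = ctr →
    (∀ v : Nd → ℤˣ, v ctr = 1 → ∏ i, v i = 1 → ∀ i, v (π i) = v i) → π = 1 := by decide +kernel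

theorem card_pts : Fintype.card Pts = 4 := by decide +kernel

theorem autos_ctr : ∀ L ∈ autos chevD4 4, L.getD 1 0 = 1 := by rw [autos_D4]; decide

theorem cartan_D4 : ∀ k i : Nd, chevD4.cartan k.val (chevD4.simple i.val) =
    if k = i then 2 else if k = ctr ∨ i = ctr then -1 else 0 := by decide +kernel

theorem prod_nd {M : Type*} [CommMonoid M] (g : Nd → M) :
    ∏ k, g k = g ⟨0, by decide⟩ * g ctr * g ⟨2, by decide⟩ * g ⟨3, by decide⟩ := Fin.prod_univ_four g

theorem nd_cases : ∀ i : Nd, i = ⟨0, by decide⟩ ∨ i = ctr ∨ i = ⟨2, by decide⟩ ∨ i = ⟨3, by decide⟩ := by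
  decide +kernel

variable {F : Type u} [Field F] [Finite F] (A : AutData chevD4)

theorem psi_ctr (θ : ↥(Std chevD4 F)) : A.psi θ ctr = ctr := by
  refine Fin.ext ((permList_getD (A.psi θ) ctr).symm.trans ?_)
  exact autos_ctr _ (A.psi_mem_autos θ)

/-- The coefficients of the normal form. -/
noncomputable def coe (θ : ↥(Std chevD4 F)) : Nd → Fˣ := (A.psi_nf θ).choose

/-- The field automorphism of the normal form. -/
noncomputable def fld (θ : ↥(Std chevD4 F)) : RingAut F := (A.psi_nf θ).choose_spec.choose ctr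

theorem eq_coe {θ : ↥(Std chevD4 F)} {π : Equiv.Perm Nd} {c : Nd → Fˣ} {φ : Nd → RingAut F}
    (h : NF A.hF θ.1 π c φ) : A.psi θ = π ∧ coe A θ = c ∧ fld A θ = φ ctr := by
  obtain ⟨h1, h2, h3⟩ := NF.unique A.hF (A.psi_nf θ).choose_spec.choose_spec h
  exact ⟨h1, h2, congrFun h3 ctr⟩

theorem coe_mul (θ θ' : ↥(Std chevD4 F)) (i : Nd) :
    ∃ φ : RingAut F, coe A (θ * θ') i = coe A θ (A.psi θ' i) * Units.map φ.toRingHom.toMonoidHom (coe A θ' i) :=
  ⟨(A.psi_nf θ).choose_spec.choose (A.psi θ' i),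
    congrFun (eq_coe A (θ := θ * θ') ((A.psi_nf θ).choose_spec.choose_spec.mul A.hF
      (A.psi_nf θ').choose_spec.choose_spec)).2.1 i⟩

/-- The field component. -/
noncomputable def fldHom : ↥(Std chevD4 F) →* RingAut F :=
  MonoidHom.mk' (fld A) fun θ θ' => by
    rw [(eq_coe A (θ := θ * θ') ((A.psi_nf θ).choose_spec.choose_spec.mul A.hF
      (A.psi_nf θ').choose_spec.choose_spec)).2.2, psi_ctr A θ']
    rfl

/-- A conjugation by a torus element has trivial field part. -/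
theorem of_inner {θ : ↥(Std chevD4 F)} (hk : θ ∈ (outMap chevD4 F).ker) :
    A.psi θ = 1 ∧ fldHom A θ = 1 ∧ ∃ d : Nd → Fˣ, ∀ i, coe A θ i = torChar chevD4 d (chevD4.simple i.val) := by
  obtain ⟨θ, hθ⟩ := θ
  obtain ⟨x, rfl⟩ := mem_outMap_ker.1 hk
  have hπ : A.psi (⟨MulAut.conj x, hθ⟩ : ↥(Std chevD4 F)) = 1 := MonoidHom.mem_ker.1 (A.ker_le hk)
  have hx := (conj_mem_Std A.hF).1 hθ
  rw [A.hF.diagonalSubgroup_eq] at hx
  obtain ⟨d, hd⟩ := hx
  obtain ⟨c, φ, h⟩ := A.psi_nf (⟨MulAut.conj x, hθ⟩ : ↥(Std chevD4 F))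
  have key : ∀ i t, (c i : F) * φ i t = (torChar chevD4 d (chevD4.simple i.val) : F) * t := fun i t => by
    have h1 := congrArg Subtype.val (h i t).1
    rw [hπ, coe_xG, Equiv.Perm.one_apply] at h1
    refine xg_inj A.hF (A.hF.simple_lt i i.isLt) (h1.symm.trans ?_)
    show (x : GL chevD4.Idx F) * A.hF.xg (chevD4.simple i.val) t * (x : GL chevD4.Idx F)⁻¹ = _
    rw [← hd, A.hF.torus_conj d (A.hF.simple_lt i i.isLt)]
  have hc : ∀ i, c i = torChar chevD4 d (chevD4.simple i.val) := fun i => Units.ext (by simpa using key i 1)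
  obtain ⟨-, h2, h3⟩ := eq_coe A (θ := ⟨MulAut.conj x, hθ⟩) h
  refine ⟨hπ, ?_, d, fun i => by rw [h2, hc]⟩
  show fld A _ = 1
  rw [h3]
  refine RingEquiv.ext fun t => mul_left_cancel₀ (c ctr).ne_zero ?_
  rw [key, ← hc]
  rfl

/-- Recognition of the conjugations by torus elements. -/
theorem inner_of (θ : ↥(Std chevD4 F)) (hπ : A.psi θ = 1) (hσ : fldHom A θ = 1)
    (hsq : ∀ i, i ≠ ctr → IsSquare (coe A θ i *
      (coe A θ ⟨0, by decide⟩ * coe A θ ctr ^ 2 * coe A θ ⟨2, by decide⟩ * coe A θ ⟨3, by decide⟩))) :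
    θ ∈ (outMap chevD4 F).ker := by
  obtain ⟨c, φ, h⟩ := A.psi_nf θ
  obtain ⟨-, hc, hfld⟩ := eq_coe A h
  rw [hc] at hsq
  rw [hπ] at h
  obtain ⟨σ, hσ', -⟩ := h.common
  have hφ : φ = fun _ => (1 : RingAut F) := by
    have he : ∀ i t, φ i t = σ t := fun i t => by
      rw [hσ' i t, Equiv.Perm.one_apply, graphExp_self, pow_one]
    funext i
    refine RingEquiv.ext fun t => ?_
    rw [he i t, ← he ctr t]
    exact congrArg (fun e : RingAut F => e t) (hfld.symm.trans hσ)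
  rw [hφ] at h
  obtain ⟨s, hs⟩ : ∃ s, s = c ⟨0, by decide⟩ * c ctr ^ 2 * c ⟨2, by decide⟩ * c ⟨3, by decide⟩ := ⟨_, rfl⟩
  rw [← hs] at hsq
  obtain ⟨a, ha⟩ := hsq ⟨0, by decide⟩ (by decide)
  obtain ⟨b, hb⟩ := hsq ⟨2, by decide⟩ (by decide)
  obtain ⟨d, d0, d1, d2, d3⟩ : ∃ d : Nd → Fˣ, d ⟨0, by decide⟩ = a ∧ d ctr = s ∧ d ⟨2, by decide⟩ = b ∧
      d ⟨3, by decide⟩ = s ^ 2 / (c ctr * a * b) :=
    ⟨fun i => ![a, s, b, s ^ 2 / (c ctr * a * b)] ⟨i.val, i.isLt⟩, rfl, rfl, rfl, rfl⟩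
  have hx : torus chevD4 F d ∈ chevD4.diagonalSubgroup F := by rw [A.hF.diagonalSubgroup_eq]; exact ⟨d, rfl⟩
  have hle : chevD4.diagonalSubgroup F ≤ chevD4.group F := fun g hg =>
    A.hF.borel_le_group (le_sup_right (a := chevD4.posUnipotent F) hg)
  let θ' : ↥(Std chevD4 F) := ⟨MulAut.conj ⟨_, hle hx⟩, (conj_mem_Std A.hF).2 hx⟩
  have hk : θ' ∈ (outMap chevD4 F).ker := mem_outMap_ker.2 ⟨_, rfl⟩
  have hd3 : s ^ 2 / (c ctr * a * b) * (s ^ 2 / (c ctr * a * b)) = c ⟨3, by decide⟩ * s := by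
    rw [div_mul_div_comm, div_eq_iff_eq_mul,
      show c ctr * a * b * (c ctr * a * b) = c ctr * c ctr * ((a * a) * (b * b)) by ac_rfl, ← ha, ← hb]
    rw [show c ⟨3, by decide⟩ * s * (c ctr * c ctr * (c ⟨0, by decide⟩ * s * (c ⟨2, by decide⟩ * s))) =
      (c ⟨0, by decide⟩ * c ctr ^ 2 * c ⟨2, by decide⟩ * c ⟨3, by decide⟩) * (s * (s * s)) by
        rw [pow_two]; ac_rfl, ← hs, pow_two]
    ac_rfl
  have htor : ∀ i : Nd, torChar chevD4 d (chevD4.simple i.val) = c i := by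
    intro i
    rw [torChar]
    simp only [cartan_D4]
    rw [prod_nd]
    rw [d0, d1, d2, d3]
    rcases nd_cases i with rfl | rfl | rfl | rfl <;> simp
    · rw [pow_two, ← ha, mul_inv_cancel_right]
    · refine Units.ext ?_
      push_cast
      field_simp
    · rw [pow_two, mul_comm, ← hb, mul_inv_cancel_right]
    · rw [pow_two (s ^ 2 / _), hd3, mul_comm (c _) s, inv_mul_cancel_left]
  obtain ⟨hπ', hσ'', d', hd'⟩ := of_inner A hk
  obtain ⟨c', φ', hnf'⟩ := A.psi_nf θ'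
  rw [hπ'] at hnf'
  have hkey : ∀ i t, (c' i : F) * φ' i t = (c i : F) * t := fun i t => by
    have h1 := congrArg Subtype.val (hnf' i t).1
    rw [coe_xG, Equiv.Perm.one_apply] at h1
    refine xg_inj A.hF (A.hF.simple_lt i i.isLt) (h1.symm.trans ?_)
    show torus chevD4 F d * A.hF.xg (chevD4.simple i.val) t * (torus chevD4 F d)⁻¹ = _
    rw [A.hF.torus_conj d (A.hF.simple_lt i i.isLt), htor]
  have hc' : c' = c := funext fun i => Units.ext (by simpa using hkey i 1)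
  subst hc'
  have hφ' : φ' = fun _ => (1 : RingAut F) := funext fun i => RingEquiv.ext fun t =>
    mul_left_cancel₀ (c' i).ne_zero (hkey i t)
  rw [hφ'] at hnf'
  rwa [show θ = θ' from Subtype.ext (NF.ext A.hF h hnf')]

section Two

/-- The action on the outer nodes. -/
noncomputable def outer : ↥(Std chevD4 F) →* Equiv.Perm {i : Nd // i ≠ ctr} :=
  MonoidHom.mk' (fun θ => (A.psi θ).subtypePerm fun i =>
      not_congr ⟨fun h => (A.psi θ).injective (h.trans (psi_ctr A θ).symm), fun h => h.symm ▸ psi_ctr A θ⟩)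
    fun θ θ' => Equiv.ext fun i => Subtype.ext (by
      show A.psi (θ * θ') i.1 = _
      rw [map_mul]
      rfl)

theorem psi_of_outer {θ : ↥(Std chevD4 F)} (h : outer A θ = 1) : A.psi θ = 1 := Equiv.ext fun i => by
  by_cases hi : i = ctr
  · subst hi; exact psi_ctr A θ
  · exact congrArg (fun e : Equiv.Perm {i : Nd // i ≠ ctr} => (e ⟨i, hi⟩).1) h

end Two

section Signs

variable (ε : Fˣ →* ℤˣ) (hε : ∀ c, ε c = 1 ↔ IsSquare c)

/-- The signs of the coefficients. -/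
noncomputable def sgn (θ : ↥(Std chevD4 F)) : Nd → ℤˣ := fun i => ε (coe A θ i)

include hε in
theorem sgn_mul (θ θ' : ↥(Std chevD4 F)) (i : Nd) :
    sgn A ε (θ * θ') i = sgn A ε θ (A.psi θ' i) * sgn A ε θ' i := by
  obtain ⟨φ, hφ⟩ := coe_mul A θ θ' i
  show ε (coe A (θ * θ') i) = ε (coe A θ (A.psi θ' i)) * ε (coe A θ' i)
  rw [hφ, map_mul]
  congr 1
  have h : ε (Units.map φ.toRingHom.toMonoidHom (coe A θ' i)) = 1 ↔ ε (coe A θ' i) = 1 := by
    rw [hε, hε]
    refine ⟨fun ⟨r, hr⟩ => ⟨Units.map φ.symm.toRingHom.toMonoidHom r, ?_⟩,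
      fun ⟨r, hr⟩ => ⟨Units.map φ.toRingHom.toMonoidHom r, by rw [hr, map_mul]⟩⟩
    rw [← map_mul, ← hr]
    exact Units.ext (φ.symm_apply_apply _).symm
  rcases Int.units_eq_one_or (ε (Units.map φ.toRingHom.toMonoidHom (coe A θ' i))) with e | e <;>
    rcases Int.units_eq_one_or (ε (coe A θ' i)) with e' | e'
  · rw [e, e']
  · exact absurd (h.1 e) (by rw [e']; decide)
  · exact absurd (h.2 e') (by rw [e]; decide)
  · rw [e, e']

/-- The affine map on the classes. -/
noncomputable def aff (θ : ↥(Std chevD4 F)) : Pts → Pts := fun v =>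
  ⟨fun j => pt (sgn A ε θ) ((A.psi θ).symm j) * v.1 ((A.psi θ).symm j), by
    have hc : (A.psi θ).symm ctr = ctr := (A.psi θ).symm_apply_eq.2 (psi_ctr A θ).symm
    show pt (sgn A ε θ) ((A.psi θ).symm ctr) * v.1 ((A.psi θ).symm ctr) = 1
    rw [hc, (pt_mem _).1, v.2.1, one_mul], by
    rw [Equiv.prod_comp (A.psi θ).symm (fun k => pt (sgn A ε θ) k * v.1 k), Finset.prod_mul_distrib, (pt_mem _).2,
      v.2.2, one_mul]⟩

include hε in
theorem aff_mul (θ θ' : ↥(Std chevD4 F)) (v : Pts) : aff A ε (θ * θ') v = aff A ε θ (aff A ε θ' v) := by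
  refine Subtype.ext (funext fun j => ?_)
  show pt (sgn A ε (θ * θ')) ((A.psi (θ * θ')).symm j) * v.1 ((A.psi (θ * θ')).symm j) =
    pt (sgn A ε θ) ((A.psi θ).symm j) *
      (pt (sgn A ε θ') ((A.psi θ').symm ((A.psi θ).symm j)) * v.1 ((A.psi θ').symm ((A.psi θ).symm j)))
  rw [map_mul, show sgn A ε (θ * θ') = fun k => sgn A ε θ (A.psi θ' k) * sgn A ε θ' k from
    funext (sgn_mul A ε hε θ θ'), pt_mul (fun k => sgn A ε θ (A.psi θ' k)) (sgn A ε θ'),
    pt_comp _ (psi_ctr A θ'), show (A.psi θ * A.psi θ').symm j = (A.psi θ').symm ((A.psi θ).symm j) from rfl,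
    Equiv.apply_symm_apply, mul_assoc]

/-- The action on the classes. -/
noncomputable def affHom : ↥(Std chevD4 F) →* Equiv.Perm Pts :=
  haveI h1 : ∀ v, aff A ε (1 : ↥(Std chevD4 F)) v = v := fun v => by
    refine Subtype.ext (funext fun j => ?_)
    show pt (sgn A ε 1) ((A.psi 1).symm j) * v.1 ((A.psi 1).symm j) = v.1 j
    have hs : sgn A ε (1 : ↥(Std chevD4 F)) = fun _ => 1 := funext fun i => by
      show ε (coe A 1 i) = 1
      rw [(eq_coe A (θ := (1 : ↥(Std chevD4 F))) (NF.one A.hF)).2.1, Pi.one_apply, map_one]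
    rw [map_one, hs, show (1 : Equiv.Perm Nd).symm j = j from rfl]
    simp [pt]
  MonoidHom.mk' (fun θ =>
    { toFun := aff A ε θ
      invFun := aff A ε θ⁻¹
      left_inv := fun v => by rw [← aff_mul A ε hε, inv_mul_cancel, h1]
      right_inv := fun v => by rw [← aff_mul A ε hε, mul_inv_cancel, h1] })
    fun θ θ' => Equiv.ext fun v => aff_mul A ε hε θ θ' v

theorem affHom_eq_one {θ : ↥(Std chevD4 F)} :
    affHom A ε hε θ = 1 ↔ A.psi θ = 1 ∧ ∀ i, pt (sgn A ε θ) i = 1 := by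
  constructor
  · intro h
    have h' : ∀ (v : Pts) j, pt (sgn A ε θ) ((A.psi θ).symm j) * v.1 ((A.psi θ).symm j) = v.1 j := fun v j =>
      congrFun (congrArg Subtype.val (congrArg (fun e : Equiv.Perm Pts => e v) h)) j
    have hpt : ∀ i, pt (sgn A ε θ) i = 1 := fun i => by
      have := h' ⟨fun _ => 1, rfl, Finset.prod_const_one⟩ (A.psi θ i)
      simpa using this
    refine ⟨faithful _ (psi_ctr A θ) fun v hv1 hv3 i => ?_, hpt⟩
    have := h' ⟨v, hv1, hv3⟩ (A.psi θ i)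
    simpa [hpt] using this.symm
  · rintro ⟨h1, h3⟩
    refine Equiv.ext fun v => Subtype.ext (funext fun j => ?_)
    show pt (sgn A ε θ) ((A.psi θ).symm j) * v.1 ((A.psi θ).symm j) = v.1 j
    rw [h3, one_mul, h1]
    rfl

end Signs

theorem perm_card_pts : Nat.card (Equiv.Perm Pts) = 24 := by
  rw [Nat.card_eq_fintype_card, Fintype.card_perm, card_pts]
  rfl

/-- An injection of the outer automorphism group of the right order is an isomorphism. -/
theorem out_equiv {B : Type*} [Group B] [Finite B] (η : ↥(Std chevD4 F) →* B)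
    (hker : η.ker = (outMap chevD4 F).ker) (hcard : Nat.card B ≤ Nat.card (Cfsg.Out ↥(chevD4.group F))) :
    Nonempty (Cfsg.Out ↥(chevD4.group F) ≃* B) := by
  obtain ⟨A⟩ := autData_of_mem (D := chevD4) (by simp)
  have e := ((QuotientGroup.quotientKerEquivOfSurjective _ A.outMap_surjective).symm.trans
    (QuotientGroup.quotientMulEquivOfEq hker.symm)).trans (QuotientGroup.quotientKerEquivRange η)
  have htop : η.range = ⊤ := by
    refine Subgroup.eq_top_of_le_card _ ?_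
    rw [← Nat.card_congr e.toEquiv]
    exact hcard
  exact ⟨(e.trans (MulEquiv.subgroupCongr htop)).trans Subgroup.topEquiv⟩

/-- The order of the outer automorphism group. -/
theorem card_out {p f : ℕ} [Fact p.Prime] [Fintype F] (hF : Fintype.card F = p ^ f) (hf : 1 ≤ f) :
    Nat.card (Cfsg.Out ↥(chevD4.group F)) = (if p = 2 then 1 else 4) * f * 6 := by
  obtain ⟨A⟩ := autData_of_mem (D := chevD4) (by simp)
  rw [A.card_out_eq kerCertD4, card_ringAut hF, ← (psi_D4 A).1, Fin.prod_univ_two,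
    show Nat.card F = p ^ f by rw [Nat.card_eq_fintype_card, hF]]
  simp only [Matrix.cons_val_zero, Matrix.cons_val_one]
  congr 2
  have hp := (Fact.out : p.Prime)
  split_ifs with h
  · subst h
    have ho : Odd (2 ^ f - 1) := by
      obtain ⟨k, rfl⟩ : ∃ k, f = k + 1 := ⟨f - 1, by omega⟩
      rw [Nat.odd_iff, pow_succ]
      have := Nat.two_pow_pos k
      omega
    rw [(Nat.coprime_two_left.2 ho).gcd_eq_one]
    norm_num
  · rw [Nat.gcd_eq_left (((hp.odd_of_ne_two h).pow.tsub_odd odd_one).two_dvd)]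
    try norm_num

/-- Characteristic two. -/
theorem out_two {f : ℕ} [Fintype F] (hf : 1 ≤ f) (hF : Fintype.card F = 2 ^ f) :
    Nonempty (Cfsg.Out ↥(chevD4.group F) ≃* Equiv.Perm (Fin 3) × Multiplicative (ZMod f)) := by
  haveI : Fact (Nat.Prime 2) := ⟨Nat.prime_two⟩
  haveI : NeZero f := ⟨by omega⟩
  obtain ⟨A⟩ := autData_of_mem (D := chevD4) (by simp)
  obtain ⟨eσ⟩ := PSLn.fieldAut_equiv hF
  haveI : Finite (RingAut F) := Finite.of_equiv _ eσ.symm.toEquiv
  let e3 : {i : Nd // i ≠ ctr} ≃ Fin 3 := Fintype.equivFinOfCardEq (by decide)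
  refine (out_equiv ((outer A (F := F)).prod (fldHom A)) ?_ ?_).map fun e =>
    e.trans (MulEquiv.prodCongr (e3.permCongrHom) eσ)
  · refine le_antisymm (fun θ hθ => ?_) fun θ hθ => ?_
    · obtain ⟨h1, h3⟩ := Prod.ext_iff.1 (MonoidHom.mem_ker.1 hθ)
      refine inner_of A θ (psi_of_outer A h1) h3 fun i _ => ?_
      haveI : CharP F 2 := charP_of_card_eq_prime_pow hF
      obtain ⟨r, hr⟩ := FiniteField.isSquare_of_char_two (ringChar.eq F 2) ((coe A θ i *
        (coe A θ ⟨0, by decide⟩ * coe A θ ctr ^ 2 * coe A θ ⟨2, by decide⟩ * coe A θ ⟨3, by decide⟩) : Fˣ) : F)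
      have hr0 : r ≠ 0 := fun h => Units.ne_zero _ (hr.trans (by rw [h, mul_zero]))
      exact ⟨Units.mk0 r hr0, Units.ext hr⟩
    · obtain ⟨h1, h3, -⟩ := of_inner A hθ
      refine MonoidHom.mem_ker.2 (Prod.ext (Equiv.ext fun i => Subtype.ext ?_) h3)
      show A.psi θ i.1 = _
      rw [h1]
      rfl
  · rw [card_out hF hf, Nat.card_prod, Nat.card_congr e3.permCongr, Nat.card_congr eσ.toEquiv,
      Nat.card_congr Multiplicative.toAdd, Nat.card_zmod, Nat.card_eq_fintype_card, Fintype.card_perm, Fintype.card_fin,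
      show Nat.factorial 3 = 6 from rfl, if_pos rfl]
    exact le_of_eq (by ring)

/-- Odd characteristic. -/
theorem out_odd {p f : ℕ} [Fact p.Prime] [Fintype F] (hf : 1 ≤ f) (hF : Fintype.card F = p ^ f) (hp : p ≠ 2) :
    Nonempty (Cfsg.Out ↥(chevD4.group F) ≃* Equiv.Perm (Fin 4) × Multiplicative (ZMod f)) := by
  classical
  haveI : NeZero f := ⟨by omega⟩
  obtain ⟨A⟩ := autData_of_mem (D := chevD4) (by simp)
  obtain ⟨eσ⟩ := PSLn.fieldAut_equiv hF
  haveI : Finite (RingAut F) := Finite.of_equiv _ eσ.symm.toEquiv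
  have h2 : ringChar F ≠ 2 := by
    haveI : CharP F p := charP_of_card_eq_prime_pow hF
    rw [ringChar.eq F p]; exact hp
  have hiff : ∀ c : Fˣ, IsSquare c ↔ IsSquare (c : F) := fun c =>
    ⟨fun ⟨r, hr⟩ => ⟨r, congrArg Units.val hr⟩, fun ⟨r, hr⟩ => ⟨Units.mk0 r
      (fun h => Units.ne_zero c (by rw [hr, h, mul_zero])), Units.ext hr⟩⟩
  let ε : Fˣ →* ℤˣ := MonoidHom.mk' (fun c => if IsSquare (c : F) then 1 else -1) fun a b => by
    simp only [Units.val_mul, Cfsg.Agent.Classical.OOmega.isSquare_iff_mul (Ring.two_ne_zero h2) a.ne_zero b.ne_zero]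
    split_ifs <;> first | rfl | tauto
  have hε : ∀ c, ε c = 1 ↔ IsSquare c := fun c => by
    rw [hiff]
    show (if IsSquare (c : F) then (1 : ℤˣ) else -1) = 1 ↔ _
    split_ifs with h <;> simp [h]
  let e4 : Pts ≃ Fin 4 := Fintype.equivFinOfCardEq card_pts
  refine (out_equiv ((affHom A ε hε).prod (fldHom A)) ?_ ?_).map fun e =>
    e.trans (MulEquiv.prodCongr (e4.permCongrHom) eσ)
  · refine le_antisymm (fun θ hθ => ?_) fun θ hθ => ?_
    · obtain ⟨h1, h3⟩ := Prod.ext_iff.1 (MonoidHom.mem_ker.1 hθ)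
      obtain ⟨hπ, hpt⟩ := (affHom_eq_one A ε hε).1 h1
      refine inner_of A θ hπ h3 fun i hi => (hε _).1 ?_
      rw [map_mul, map_mul, map_mul, map_mul, map_pow, Int.units_sq, mul_one]
      exact pt_eq_one _ hpt i hi
    · obtain ⟨h1, h3, d, hd⟩ := of_inner A hθ
      refine MonoidHom.mem_ker.2 (Prod.ext ((affHom_eq_one A ε hε).2 ⟨h1, ?_⟩) h3)
      have hs : sgn A ε θ = fun i => ∏ k : Nd, ε (d k) ^ chevD4.cartan k.val (chevD4.simple i.val) := funext fun i => by
        show ε (coe A θ i) = _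
        rw [hd, torChar, map_prod]
        exact Finset.prod_congr rfl fun k _ => map_zpow ε _ _
      have key : ∀ t : Nd → ℤˣ, ∀ j, pt (fun i => ∏ k : Nd, t k ^ chevD4.cartan k.val (chevD4.simple i.val)) j = 1 := by
        simp only [cartan_D4]
        decide +kernel
      rw [hs]
      exact key fun k => ε (d k)
  · rw [card_out hF hf, Nat.card_prod, perm_card_pts, Nat.card_congr eσ.toEquiv,
      Nat.card_congr Multiplicative.toAdd, Nat.card_zmod, if_neg hp]
    exact le_of_eq (by ring)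

end Cfsg.Agent.Small.ChevAut.OutD4
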