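import Cfsg.Agent.Lib.Lie.GraphTables
import Cfsg.Prelude.Def_ChevAutomorphisms

/-!
Checks on the tables used for the automorphism theorem.
-/

set_option autoImplicit false

namespace Cfsg.Agent.Small.ChevAut

open Cfsg.Lie Cfsg.Agent.Lie

/-- Opposite fundamental root subgroups of distinct nodes commute. -/
def okPM (D : ChevalleyDatum) : Bool :=
  (List.range D.rank).all fun i => (List.range D.rank).all fun j =>
    i == j || (D.commTerms (D.neg (D.simple i)) (D.simple j)).isEmpty

/-- The functionals are positive multiples of coefficient functions. -/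
def okDiv (D : ChevalleyDatum) (l : List (List ℤ)) : Bool :=
  (List.range D.rank).all fun i =>
    decide (psiOf D (coeffFun l i) (D.simple i) ≠ 0) &&
    ((List.range D.rank).all fun j => i == j || decide (psiOf D (coeffFun l i) (D.simple j) = 0)) &&
    (List.range D.nroots).all fun r =>
      decide (psiOf D (coeffFun l i) r % psiOf D (coeffFun l i) (D.simple i) = 0)

/-- Adjacency of nodes. -/
def adjB (D : ChevalleyDatum) (i j : ℕ) : Bool := decide (D.cartan i (D.simple j) ≠ 0)

/-- Partial maps of the first k nodes preserving adjacency. -/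
def autos (D : ChevalleyDatum) : ℕ → List (List ℕ)
  | 0 => [[]]
  | k + 1 => (autos D k).flatMap fun L => (List.range D.rank).filterMap fun a =>
      if ((List.range k).all fun j => L.getD j 0 != a && adjB D (L.getD j 0) a == adjB D j k &&
        adjB D a (L.getD j 0) == adjB D k j) then some (L ++ [a]) else none

/-- Each node other than node 0 is joined by a Cartan integer -1 to one of smaller depth. -/
def okConn (D : ChevalleyDatum) (dep : List ℕ) : Bool :=
  (List.range D.rank).all fun i => i == 0 || (List.range D.rank).any fun j =>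
    decide (dep.getD j 0 < dep.getD i 0) &&
      (decide (D.cartan i (D.simple j) = -1) || decide (D.cartan j (D.simple i) = -1))

/-- Depths in the diagrams of type E. -/
def depE : List ℕ := [0, 3, 1, 2, 3, 4, 5, 6]

/-- Depths in a chain. -/
def depA : List ℕ := [0, 1, 2, 3]

/-- Depths in the diagram of type D4. -/
def depD : List ℕ := [0, 1, 2, 2]

/-- Simply laced tables. -/
def okSimply (D : ChevalleyDatum) : Bool :=
  (List.range D.rank).all fun i => !D.isLong (D.simple i) && (List.range D.rank).all fun j =>
    i == j || decide (D.cartan i (D.simple j) = 0 ∨ D.cartan i (D.simple j) = -1)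

/-- A root map keeps positive roots positive and negative ones negative. -/
def okPosMap (D : ChevalleyDatum) (R : RMap) : Bool :=
  (List.range D.nroots).all fun r => decide (D.nroots / 2 ≤ r) == decide (D.nroots / 2 ≤ R.img r)

theorem okPM_G2 : okPM chevG2 = true := by decide +kernel
theorem okPM_B2 : okPM chevB2 = true := by decide +kernel
theorem okPM_D4 : okPM chevD4 = true := by decide +kernel
theorem okPM_F4 : okPM chevF4 = true := by decide +kernel
theorem okPM_E6 : okPM chevE6 = true := by decide +kernel
theorem okPM_E7 : okPM chevE7 = true := by decide +kernel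
theorem okPM_E8 : okPM chevE8 = true := by decide +kernel

theorem okDiv_G2 : okDiv chevG2 coeffG2 = true := by decide +kernel
theorem okDiv_B2 : okDiv chevB2 coeffB2 = true := by decide +kernel
theorem okDiv_D4 : okDiv chevD4 coeffD4 = true := by decide +kernel
theorem okDiv_F4 : okDiv chevF4 coeffF4 = true := by decide +kernel
theorem okDiv_E6 : okDiv chevE6 coeffE6 = true := by decide +kernel
theorem okDiv_E7 : okDiv chevE7 coeffE7 = true := by decide +kernel
theorem okDiv_E8 : okDiv chevE8 coeffE8 = true := by decide +kernel

theorem okConn_G2 : okConn chevG2 depA = true := by decide +kernel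
theorem okConn_B2 : okConn chevB2 depA = true := by decide +kernel
theorem okConn_D4 : okConn chevD4 depD = true := by decide +kernel
theorem okConn_F4 : okConn chevF4 depA = true := by decide +kernel
theorem okConn_E6 : okConn chevE6 depE = true := by decide +kernel
theorem okConn_E7 : okConn chevE7 depE = true := by decide +kernel
theorem okConn_E8 : okConn chevE8 depE = true := by decide +kernel

theorem okSimply_D4 : okSimply chevD4 = true := by decide +kernel
theorem okSimply_E6 : okSimply chevE6 = true := by decide +kernel
theorem okSimply_E7 : okSimply chevE7 = true := by decide +kernel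
theorem okSimply_E8 : okSimply chevE8 = true := by decide +kernel

theorem autos_G2 : autos chevG2 2 = [[0, 1], [1, 0]] := by decide +kernel
theorem autos_B2 : autos chevB2 2 = [[0, 1], [1, 0]] := by decide +kernel
theorem autos_D4 : autos chevD4 4 =
    [[0, 1, 2, 3], [0, 1, 3, 2], [2, 1, 0, 3], [2, 1, 3, 0], [3, 1, 0, 2], [3, 1, 2, 0]] := by decide +kernel
theorem autos_F4 : autos chevF4 4 = [[0, 1, 2, 3], [3, 2, 1, 0]] := by decide +kernel
theorem autos_E6 : autos chevE6 6 = [[0, 1, 2, 3, 4, 5], [5, 1, 4, 3, 2, 0]] := by decide +kernel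
theorem autos_E7 : autos chevE7 7 = [[0, 1, 2, 3, 4, 5, 6]] := by decide +kernel
theorem autos_E8 : autos chevE8 8 = [[0, 1, 2, 3, 4, 5, 6, 7]] := by decide +kernel

/-- The exchange of two outer nodes of D4. -/
def graphD4c : RMap where
  pi := [0, 1, 3, 2, 4, 5, 6, 8, 7, 9, 11, 10, 13, 12, 14, 16, 15, 17, 18, 19, 21, 20, 22, 23]
  sg := [1, 1, 1, 1, 1, 1, 1, 1, 1, 1, 1, 1, 1, 1, 1, 1, 1, 1, 1, 1, 1, 1, 1, 1]
  ex := [1, 1, 1, 1, 1, 1, 1, 1, 1, 1, 1, 1, 1, 1, 1, 1, 1, 1, 1, 1, 1, 1, 1, 1]

theorem okMap_D4c : graphD4c.okMap chevD4 0 = true := by decide +kernel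
theorem okOrder_D4c : graphD4c.okOrder chevD4 0 2 1 = true := by decide +kernel
theorem okNodes_D4c : graphD4c.okNodes chevD4 [0, 1, 3, 2] = true := by decide +kernel

theorem okPos_G2 : okPosMap chevG2 graphG2 = true := by decide +kernel
theorem okPos_F4 : okPosMap chevF4 graphF4 = true := by decide +kernel
theorem okPos_E6 : okPosMap chevE6 graphE6 = true := by decide +kernel
theorem okPos_D4a : okPosMap chevD4 graphD4a = true := by decide +kernel
theorem okPos_D4c : okPosMap chevD4 graphD4c = true := by decide +kernel

theorem long_G2 : chevG2.isLong (chevG2.simple 0) = false ∧ chevG2.isLong (chevG2.simple 1) = true := by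
  decide +kernel

theorem long_B2 : chevB2.isLong (chevB2.simple 0) = false ∧ chevB2.isLong (chevB2.simple 1) = true := by
  decide +kernel

theorem long_F4 : chevF4.isLong (chevF4.simple 0) = false ∧ chevF4.isLong (chevF4.simple 1) = false ∧
    chevF4.isLong (chevF4.simple 2) = true ∧ chevF4.isLong (chevF4.simple 3) = true := by decide +kernel

end Cfsg.Agent.Small.ChevAut
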