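import Cfsg.Agent.Lib.Small.ChevAut.NormalForm
import Cfsg.Agent.Lib.Small.ChevAut.Tables
import Cfsg.Agent.Lib.Small.RootCharacter
import Cfsg.Agent.Lib.Lie.FieldFix

/-!
The diagonal, field and graph automorphisms in normal form.
-/

set_option autoImplicit false
set_option synthInstance.maxHeartbeats 400000
set_option linter.style.haveILetI false

namespace Cfsg.Agent.Small.ChevAut

open Cfsg.Lie Cfsg.Agent.Lie
open scoped MatrixGroups Matrix

variable {D : ChevalleyDatum} {F : Type*} [Field F]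

/-- What is used about a datum. -/
structure AutData (D : ChevalleyDatum) where
  hF : Facts D
  mem : D ∈ [chevG2, chevB2, chevD4, chevF4, chevE6, chevE7, chevE8]
  l : List (List ℤ)
  hdiv : okDiv D l = true
  hpm : ∀ i j : Fin D.rank, i ≠ j → D.commTerms (D.neg (D.simple i.val)) (D.simple j.val) = []

theorem pm_of_ok {D : ChevalleyDatum} (h : okPM D = true) :
    ∀ i j : Fin D.rank, i ≠ j → D.commTerms (D.neg (D.simple i.val)) (D.simple j.val) = [] := by
  intro i j hij
  simp only [okPM, List.all_eq_true, List.mem_range, Bool.or_eq_true, beq_iff_eq, List.isEmpty_iff] at h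
  exact (h i.val i.isLt j.val j.isLt).resolve_left fun e => hij (Fin.ext e)

theorem autData_of_mem {D : ChevalleyDatum}
    (hD : D ∈ [chevG2, chevB2, chevD4, chevF4, chevE6, chevE7, chevE8]) : Nonempty (AutData D) := by
  obtain ⟨hF⟩ := facts_of_mem hD
  have hD' := hD
  simp only [List.mem_cons, List.not_mem_nil, or_false] at hD'
  rcases hD' with rfl | rfl | rfl | rfl | rfl | rfl | rfl
  exacts [⟨⟨hF, hD, _, okDiv_G2, pm_of_ok okPM_G2⟩⟩, ⟨⟨hF, hD, _, okDiv_B2, pm_of_ok okPM_B2⟩⟩,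
    ⟨⟨hF, hD, _, okDiv_D4, pm_of_ok okPM_D4⟩⟩, ⟨⟨hF, hD, _, okDiv_F4, pm_of_ok okPM_F4⟩⟩,
    ⟨⟨hF, hD, _, okDiv_E6, pm_of_ok okPM_E6⟩⟩, ⟨⟨hF, hD, _, okDiv_E7, pm_of_ok okPM_E7⟩⟩,
    ⟨⟨hF, hD, _, okDiv_E8, pm_of_ok okPM_E8⟩⟩]

variable (A : AutData D)

/-- The coefficient of a root at a node. -/
def AutData.coef (i r : ℕ) : ℤ :=
  psiOf D (coeffFun A.l i) r / psiOf D (coeffFun A.l i) (D.simple i)

theorem AutData.div_spec {i : ℕ} (hi : i < D.rank) :
    psiOf D (coeffFun A.l i) (D.simple i) ≠ 0 ∧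
    (∀ j, j < D.rank → i ≠ j → psiOf D (coeffFun A.l i) (D.simple j) = 0) ∧
    ∀ r, r < D.nroots → psiOf D (coeffFun A.l i) (D.simple i) ∣ psiOf D (coeffFun A.l i) r := by
  have h := A.hdiv
  simp only [okDiv, List.all_eq_true, List.mem_range, Bool.and_eq_true, Bool.or_eq_true, beq_iff_eq,
    decide_eq_true_eq] at h
  obtain ⟨⟨h1, h2⟩, h3⟩ := h i hi
  exact ⟨h1, fun j hj hij => (h2 j hj).resolve_left hij, fun r hr => Int.dvd_of_emod_eq_zero (h3 r hr)⟩

/-- The root character with given values at the fundamental roots. -/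
def AutData.chr (c : Fin D.rank → Fˣ) (r : ℕ) : Fˣ := ∏ i : Fin D.rank, c i ^ A.coef i.val r

theorem AutData.chr_simple (c : Fin D.rank → Fˣ) (j : Fin D.rank) : A.chr c (D.simple j.val) = c j := by
  rw [AutData.chr, Finset.prod_eq_single j]
  · rw [AutData.coef, Int.ediv_self (A.div_spec j.isLt).1, zpow_one]
  · intro b _ hb
    rw [AutData.coef, (A.div_spec b.isLt).2.1 j.val j.isLt fun e => hb (Fin.ext e), Int.zero_ediv, zpow_zero]
  · exact fun h => absurd (Finset.mem_univ j) h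

theorem AutData.chr_isRootCharacter (c : Fin D.rank → Fˣ) : D.IsRootCharacter (A.chr c) := by
  refine ⟨fun r hr => ?_, fun r s k hr hs hk => ?_⟩
  · rw [AutData.chr, AutData.chr, ← Finset.prod_inv_distrib]
    refine Finset.prod_congr rfl fun i _ => ?_
    rw [← _root_.zpow_neg]
    congr 1
    rw [AutData.coef, AutData.coef, ← Int.neg_ediv_of_dvd ((A.div_spec i.isLt).2.2 r hr)]
    congr 1
    simp only [psiOf, ← Finset.sum_neg_distrib]
    refine Finset.sum_congr rfl fun m hm => ?_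
    rw [A.hF.cartan_neg m (Finset.mem_range.1 hm) r hr, mul_neg]
  · rw [AutData.chr, AutData.chr, AutData.chr, ← Finset.prod_mul_distrib]
    refine Finset.prod_congr rfl fun i _ => ?_
    rw [← _root_.zpow_add]
    congr 1
    simp only [ChevalleyDatum.chainRoot, Option.map_eq_some_iff, Nat.sub_self] at hk
    obtain ⟨e, he, rfl⟩ := hk
    have hq : (e, 0) ∈ (D.chainEntry r s).zipIdx := by
      rw [List.mem_zipIdx_iff_getElem?]
      exact he
    have hlin : psiOf D (coeffFun A.l i.val) e.1 =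
        psiOf D (coeffFun A.l i.val) r + psiOf D (coeffFun A.l i.val) s := by
      simp only [psiOf, ← Finset.sum_add_distrib]
      refine Finset.sum_congr rfl fun m hm => ?_
      rw [A.hF.chain_cartan r hr s (e, 0) hq m (Finset.mem_range.1 hm)]
      push_cast
      ring
    rw [AutData.coef, AutData.coef, AutData.coef, hlin,
      Int.add_ediv_of_dvd_left ((A.div_spec i.isLt).2.2 r hr)]

/-- The matrix of a root character. -/
noncomputable def dMat (D : ChevalleyDatum) (χ : ℕ → Fˣ) : GL D.Idx F where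
  val := D.charDiag F χ
  inv := D.charDiag F fun r => (χ r)⁻¹
  val_inv := by
    rw [ChevalleyDatum.charDiag, ChevalleyDatum.charDiag, Matrix.diagonal_mul_diagonal, ← Matrix.diagonal_one]
    congr 1
    funext p
    cases p <;> simp
  inv_val := by
    rw [ChevalleyDatum.charDiag, ChevalleyDatum.charDiag, Matrix.diagonal_mul_diagonal, ← Matrix.diagonal_one]
    congr 1
    funext p
    cases p <;> simp

include A in
theorem dMat_conj (χ : ℕ → Fˣ) (hχ : D.IsRootCharacter χ) {r : ℕ} (hr : r < D.nroots) (t : F) :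
    dMat D χ * A.hF.xg r t * (dMat D χ)⁻¹ = A.hF.xg r ((χ r : F) * t) := by
  refine Units.ext ?_
  rw [Units.val_mul, Units.val_mul, Facts.coe_xg, Facts.coe_xg]
  exact RootCharacter.charDiag_conj_x A.mem χ hχ r hr t

include A in
theorem dMat_conj_mem (χ : ℕ → Fˣ) (hχ : D.IsRootCharacter χ) {g : GL D.Idx F} (hg : g ∈ D.group F) :
    dMat D χ * g * (dMat D χ)⁻¹ ∈ D.group F := by
  have h : D.group F ≤ (D.group F).comap (MulAut.conj (dMat D χ)).toMonoidHom := by
    rw [A.hF.group_eq, Subgroup.closure_le]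
    rintro _ ⟨⟨r, t⟩, rfl⟩
    by_cases hr : r < D.nroots
    · refine Subgroup.subset_closure ⟨(r, (χ r : F) * t), ?_⟩
      exact (dMat_conj A χ hχ hr t).symm
    · simp only [A.hF.xg_out (not_lt.1 hr), SetLike.mem_coe, one_mem]
  exact h hg

theorem inv_isRootCharacter {χ : ℕ → Fˣ} (hχ : D.IsRootCharacter χ) : D.IsRootCharacter fun r => (χ r)⁻¹ :=
  ⟨fun r hr => by simp only [hχ.1 r hr], fun r s k hr hs hk => by simp only [hχ.2 r s k hr hs hk, mul_inv]⟩

/-- Conjugation by the matrix of a root character. -/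
noncomputable def AutData.dConj (χ : ℕ → Fˣ) (hχ : D.IsRootCharacter χ) : MulAut ↥(D.group F) where
  toFun g := ⟨dMat D χ * g * (dMat D χ)⁻¹, dMat_conj_mem A χ hχ g.2⟩
  invFun g := ⟨(dMat D χ)⁻¹ * g * dMat D χ, by
    have h := dMat_conj_mem A _ (inv_isRootCharacter hχ) g.2
    have e : dMat D (fun r => (χ r)⁻¹) = (dMat D χ)⁻¹ := Units.ext rfl
    rwa [e, inv_inv] at h⟩
  left_inv g := Subtype.ext (by simp [mul_assoc])
  right_inv g := Subtype.ext (by simp [mul_assoc])
  map_mul' g h := Subtype.ext (by simp [mul_assoc])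

/-- The diagonal automorphism with given values at the fundamental roots. -/
noncomputable def AutData.dAut (c : Fin D.rank → Fˣ) : MulAut ↥(D.group F) :=
  A.dConj (A.chr c) (A.chr_isRootCharacter c)

theorem AutData.dConj_xG (χ : ℕ → Fˣ) (hχ : D.IsRootCharacter χ) {r : ℕ} (hr : r < D.nroots) (t : F) :
    A.dConj χ hχ (xG A.hF r t) = xG A.hF r ((χ r : F) * t) := Subtype.ext (dMat_conj A χ hχ hr t)

theorem AutData.dConj_NF (χ : ℕ → Fˣ) (hχ : D.IsRootCharacter χ) :
    NF A.hF (A.dConj χ hχ) 1 (fun i => χ (D.simple i.val)) (fun _ => (1 : RingAut F)) := by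
  intro i t
  have hα := A.hF.simple_lt i i.isLt
  refine ⟨?_, ?_⟩
  · rw [A.dConj_xG χ hχ hα]
    rfl
  · rw [A.dConj_xG χ hχ (A.hF.neg_lt hα), hχ.1 _ hα, Units.val_inv_eq_inv_val]
    rfl

theorem AutData.dAut_NF (c : Fin D.rank → Fˣ) :
    NF A.hF (A.dAut c) 1 c (fun _ => (1 : RingAut F)) := by
  have h := A.dConj_NF (A.chr c) (A.chr_isRootCharacter c)
  rwa [show (fun i : Fin D.rank => A.chr c (D.simple i.val)) = c from funext (A.chr_simple c)] at h

theorem AutData.dAut_isDiagonal (c : Fin D.rank → Fˣ) : D.IsDiagonalAut (A.dAut c) :=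
  ⟨A.chr c, A.chr_isRootCharacter c, fun _ => rfl⟩

theorem AutData.isDiagonal_iff {φ : MulAut ↥(D.group F)} :
    D.IsDiagonalAut φ ↔ ∃ c, φ = A.dAut c := by
  constructor
  · rintro ⟨χ, hχ, h⟩
    have e : φ = A.dConj χ hχ := MulEquiv.ext fun g => Subtype.ext (Units.ext (h g))
    refine ⟨fun i => χ (D.simple i.val), e.trans ((A.dConj_NF χ hχ).ext A.hF (A.dAut_NF _))⟩
  · rintro ⟨c, rfl⟩
    exact A.dAut_isDiagonal c

/-- A set of root images that respects positivity puts an automorphism into Std. -/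
theorem std_of_roots [Finite F] (hF : Facts D) (θ : MulAut ↥(D.group F))
    (h : ∀ r, r < D.nroots → ∀ t : F, ∃ s u, s < D.nroots ∧ (D.nroots / 2 ≤ r ↔ D.nroots / 2 ≤ s) ∧
      θ (xG hF r t) = xG hF s u) : θ ∈ Std D F := by
  classical
  haveI := Fintype.ofFinite F
  have hcard : ∀ K : Subgroup ↥(D.group F), K.map θ.toMonoidHom ≤ K → K.map θ.toMonoidHom = K := fun K hK =>
    Subgroup.eq_of_le_of_card_ge hK
      (Nat.card_congr (K.equivMapOfInjective θ.toMonoidHom θ.injective).toEquiv).le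
  refine ⟨hcard _ ?_, hcard _ ?_⟩
  · suffices hle : D.posUnipotent F ≤ ((UG D F).comap θ.toMonoidHom).map (D.group F).subtype by
      rw [Subgroup.map_le_iff_le_comap]
      intro g hg
      obtain ⟨z, hz, hzg⟩ := hle hg
      rwa [← show z = g from Subtype.ext hzg]
    rw [hF.posUnipotent_eq F]
    refine CommSys.US_le _ fun r hr t => ⟨xG hF r t, ?_, rfl⟩
    obtain ⟨h1, h2⟩ := Facts.mem_posL.1 hr
    obtain ⟨s, u, hs, hpos, he⟩ := h r h2 t
    show θ (xG hF r t) ∈ UG D F
    rw [he, mem_UG, coe_xG, ← hF.tsys_U]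
    exact (hF.tsys F).x_mem_U (hpos.1 h1) hs u
  · suffices hle : D.negUnipotent F ≤ ((VG D F).comap θ.toMonoidHom).map (D.group F).subtype by
      rw [Subgroup.map_le_iff_le_comap]
      intro g hg
      obtain ⟨z, hz, hzg⟩ := hle hg
      rwa [← show z = g from Subtype.ext hzg]
    refine hF.negUnipotent_le fun r hr t => ⟨xG hF r t, ?_, rfl⟩
    obtain ⟨s, u, hs, hpos, he⟩ := h r (by omega) t
    show θ (xG hF r t) ∈ VG D F
    rw [he, mem_VG, coe_xG]
    exact hF.x_mem_negUnipotent (not_le.1 fun hc => absurd (hpos.2 hc) (not_le.2 hr)) u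

theorem AutData.dAut_mem_Std [Finite F] (c : Fin D.rank → Fˣ) : A.dAut c ∈ Std D F :=
  std_of_roots A.hF _ fun r hr t => ⟨r, _, hr, Iff.rfl, A.dConj_xG _ _ hr t⟩

/-- The field automorphism. -/
noncomputable def AutData.fAut (σ : RingAut F) : MulAut ↥(D.group F) where
  toFun g := ⟨gmap σ.toRingHom g, A.hF.gmap_group_le σ.toRingHom ⟨_, g.2, rfl⟩⟩
  invFun g := ⟨gmap σ.symm.toRingHom g, A.hF.gmap_group_le σ.symm.toRingHom ⟨_, g.2, rfl⟩⟩
  left_inv g := Subtype.ext (Units.ext (Matrix.ext fun p q => σ.symm_apply_apply _))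
  right_inv g := Subtype.ext (Units.ext (Matrix.ext fun p q => σ.apply_symm_apply _))
  map_mul' g h := Subtype.ext (map_mul _ _ _)

theorem AutData.fAut_xG (σ : RingAut F) (r : ℕ) (t : F) : A.fAut σ (xG A.hF r t) = xG A.hF r (σ t) :=
  Subtype.ext (A.hF.gmap_xg _ r t)

theorem AutData.fAut_NF (σ : RingAut F) :
    NF A.hF (A.fAut σ) 1 (1 : Fin D.rank → Fˣ) (fun _ => σ) := by
  intro i t
  simp only [A.fAut_xG, Equiv.Perm.one_apply, Pi.one_apply, Units.val_one, inv_one, one_mul, and_self]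

theorem AutData.fAut_isField (σ : RingAut F) : D.IsFieldAut (A.fAut σ) := by
  refine ⟨σ, fun g r t hr hg => ?_⟩
  rw [(eq_xG A.hF).1 hg, A.fAut_xG]
  rfl

theorem AutData.isField_iff {φ : MulAut ↥(D.group F)} : D.IsFieldAut φ ↔ ∃ σ, φ = A.fAut σ := by
  constructor
  · rintro ⟨σ, hσ⟩
    refine ⟨σ, NF.ext A.hF (fun i t => ?_) (A.fAut_NF σ)⟩
    have hα := A.hF.simple_lt i i.isLt
    simp only [Equiv.Perm.one_apply, Pi.one_apply, Units.val_one, inv_one, one_mul]
    exact ⟨(eq_xG A.hF).1 (hσ _ _ t hα rfl), (eq_xG A.hF).1 (hσ _ _ t (A.hF.neg_lt hα) rfl)⟩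
  · rintro ⟨σ, rfl⟩
    exact A.fAut_isField σ

theorem AutData.fAut_mem_Std [Finite F] (σ : RingAut F) : A.fAut σ ∈ Std D F :=
  std_of_roots A.hF _ fun r hr t => ⟨r, _, hr, Iff.rfl, A.fAut_xG σ r t⟩

/-- A table of a root map gives an automorphism fixing U and V acting on the nodes as told. -/
theorem AutData.exists_graph [Finite F] {R : RMap} {p : ℕ} (hm : ModField F p) (hok : R.okMap D p = true)
    (hpos : okPosMap D R = true) {N q : ℕ} (hord : R.okOrder D p N q = true)
    (fq : F →+* F) (hq : ∀ t, fq t = t ^ q) {σl : List ℕ} (hnodes : R.okNodes D σl = true) :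
    ∃ α ∈ Std D F, ∀ i : Fin D.rank,
      α (xG A.hF (D.simple i.val) 1) = xG A.hF (D.simple (σl.getD i.val 0)) 1 := by
  obtain ⟨α, hα⟩ := A.hF.rootMap_aut hm hok (stHyp_of_mem A.mem) hord fq hq
  have hx : ∀ r, r < D.nroots → ∀ t : F,
      α (xG A.hF r t) = xG A.hF (R.img r) ((R.sign r : F) * t ^ R.expo r) :=
    fun r hr t => (eq_xG A.hF).1 (hα _ r t hr rfl)
  refine ⟨α, std_of_roots A.hF α fun r hr t => ⟨_, _, (Facts.okMap_root hok hr).1, ?_, hx r hr t⟩,
    fun i => ?_⟩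
  · simp only [okPosMap, List.all_eq_true, List.mem_range, beq_iff_eq, decide_eq_decide] at hpos
    exact hpos r hr
  · obtain ⟨e1, -, e3, -⟩ := R.okNodes_spec hnodes i.isLt
    rw [hx _ (A.hF.simple_lt i i.isLt) 1, e1, e3]
    simp

end Cfsg.Agent.Small.ChevAut
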