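import Cfsg.Agent.Lib.Small.ChevAut.Diag

/-!
The field automorphisms of the nodes come from a single one, and the permutation of the nodes is a symmetry of
the diagram.
-/

set_option autoImplicit false
set_option synthInstance.maxHeartbeats 400000
set_option linter.style.haveILetI false

namespace Cfsg.Agent.Small.ChevAut

open Cfsg.Lie Cfsg.Agent.Lie
open scoped MatrixGroups

variable {D : ChevalleyDatum} {F : Type*} [Field F]

/-- The list of values of a permutation. -/
def permFun (π : Equiv.Perm (Fin D.rank)) (j : ℕ) : ℕ := if h : j < D.rank then (π ⟨j, h⟩).val else 0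

/-- The list of values of a permutation. -/
def permList (π : Equiv.Perm (Fin D.rank)) : List ℕ := (List.range D.rank).map (permFun π)

theorem permList_getD (π : Equiv.Perm (Fin D.rank)) (i : Fin D.rank) :
    (permList π).getD i.val 0 = (π i).val := by
  rw [permList, List.getD_eq_getElem?_getD, List.getElem?_map, List.getElem?_range i.isLt]
  simp [permFun]

theorem permList_injective : Function.Injective (permList (D := D)) := fun π π' h =>
  Equiv.ext fun i => Fin.ext (by rw [← permList_getD π i, ← permList_getD π' i, h])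

theorem permList_mem_autos (π : Equiv.Perm (Fin D.rank))
    (hadj : ∀ i j : Fin D.rank, i ≠ j →
      (D.cartan i.val (D.simple j.val) = 0 ↔ D.cartan (π i).val (D.simple (π j).val) = 0)) :
    permList π ∈ autos D D.rank := by
  suffices h : ∀ k, k ≤ D.rank → (List.range k).map (permFun π) ∈ autos D k from h _ le_rfl
  intro k
  induction k with
  | zero => intro _; simp [autos]
  | succ k ih =>
    intro hk
    rw [autos, List.mem_flatMap]
    refine ⟨_, ih (by omega), List.mem_filterMap.2 ⟨(π ⟨k, by omega⟩).val, List.mem_range.2 (π _).isLt, ?_⟩⟩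
    rw [if_pos, List.range_succ, List.map_append]
    · simp [permFun, show k < D.rank by omega]
    rw [List.all_eq_true]
    intro j hj
    rw [List.mem_range] at hj
    have hg : ((List.range k).map (permFun π)).getD j 0 = (π ⟨j, by omega⟩).val := by
      rw [List.getD_eq_getElem?_getD, List.getElem?_map, List.getElem?_range hj]
      simp [permFun, show j < D.rank by omega]
    have hne : (⟨j, by omega⟩ : Fin D.rank) ≠ ⟨k, by omega⟩ := fun e => by
      have := congrArg Fin.val e; simp at this; omega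
    have h1 := hadj _ _ hne
    have h2 := hadj _ _ hne.symm
    rw [hg]
    simp only [Bool.and_eq_true, bne_iff_ne, beq_iff_eq, adjB, decide_eq_decide]
    refine ⟨⟨fun e => hne (π.injective (Fin.ext e)), ?_⟩, ?_⟩
    · exact not_congr h1.symm
    · exact not_congr h2.symm

variable (A : AutData D)

theorem rank_pos_of_mem (hD : D ∈ [chevG2, chevB2, chevD4, chevF4, chevE6, chevE7, chevE8]) : 0 < D.rank := by
  simp only [List.mem_cons, List.not_mem_nil, or_false] at hD
  rcases hD with rfl | rfl | rfl | rfl | rfl | rfl | rfl <;> decide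

/-- In a field with two elements every power and every automorphism is trivial. -/
theorem two_elements [Finite F] (h : Nat.card F = 2) : ∀ (σ : RingAut F) (t : F) (e : ℕ), e ≠ 0 →
    σ t = t ∧ t ^ e = t := by
  classical
  haveI := Fintype.ofFinite F
  intro σ t e he
  have hall : ∀ t : F, t = 0 ∨ t = 1 := by
    intro t
    by_contra hc
    rw [not_or] at hc
    have h3 : ({0, 1, t} : Finset F).card = 3 := by
      rw [Finset.card_insert_of_notMem, Finset.card_insert_of_notMem, Finset.card_singleton]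
      · simpa using Ne.symm hc.2
      · simp [Ne.symm hc.1]
    have := Finset.card_le_univ ({0, 1, t} : Finset F)
    rw [h3, ← Nat.card_eq_fintype_card, h] at this
    omega
  rcases hall t with rfl | rfl
  · exact ⟨map_zero σ, zero_pow he⟩
  · exact ⟨map_one σ, one_pow e⟩

/-- Squaring is additive only in characteristic two. -/
theorem two_of_sq_additive (hadd : ∀ a b : F, (a + b) ^ 2 = a ^ 2 + b ^ 2) : ringChar F = 2 := by
  have h := hadd 1 1
  have h2 : ((2 : ℕ) : F) = 0 := by push_cast; linear_combination h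
  have hd := ringChar.dvd h2
  rcases (Nat.dvd_prime Nat.prime_two).1 hd with h1 | h1
  · exact absurd h1 CharP.ringChar_ne_one
  · exact h1

/-- Cubing is additive only in characteristic three or over two elements. -/
theorem three_of_cube_additive [Finite F] (hadd : ∀ a b : F, (a + b) ^ 3 = a ^ 3 + b ^ 3) :
    ringChar F = 3 ∨ Nat.card F = 2 := by
  classical
  haveI := Fintype.ofFinite F
  by_cases h3 : (3 : F) = 0
  · left
    have h3' : ((3 : ℕ) : F) = 0 := by exact_mod_cast h3
    rcases (Nat.dvd_prime Nat.prime_three).1 (ringChar.dvd h3') with h1 | h1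
    · exact absurd h1 CharP.ringChar_ne_one
    · exact h1
  · right
    have hx : ∀ x : F, x = 0 ∨ x = -1 := by
      intro x
      have h := hadd x 1
      have h' : (3 : F) * (x * (x + 1)) = 0 := by linear_combination h
      rcases mul_eq_zero.1 ((mul_eq_zero.1 h').resolve_left h3) with h1 | h1
      · exact Or.inl h1
      · exact Or.inr (eq_neg_of_add_eq_zero_left h1)
    have hsub : (Finset.univ : Finset F) ⊆ {0, -1} := fun x _ => by simpa using hx x
    have h1 := (Finset.card_le_card hsub).trans Finset.card_le_two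
    rw [Finset.card_univ, ← Nat.card_eq_fintype_card] at h1
    have h2 := Finite.one_lt_card (α := F)
    omega

variable {A} {θ : MulAut ↥(D.group F)} {π : Equiv.Perm (Fin D.rank)} {c : Fin D.rank → Fˣ}
  {φ : Fin D.rank → RingAut F}

theorem NF.mem_autos (h : NF A.hF θ π c φ) : permList π ∈ autos D D.rank :=
  permList_mem_autos π fun i j hij => h.adj A.hF i j hij

/-- The relation along an edge with Cartan integer -1. -/
theorem NF.rel_pow (h : NF A.hF θ π c φ) {i j : Fin D.rank} (hA : D.cartan i.val (D.simple j.val) = -1)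
    {n : ℕ} (hn : n ≠ 0) (hA' : D.cartan (π i).val (D.simple (π j).val) = -(n : ℤ)) (t : F) :
    φ j t = φ i t ^ n := by
  by_cases ht : t = 0
  · subst ht
    rw [map_zero, map_zero, zero_pow hn]
  have e := h.rel A.hF i j (Units.mk0 t ht)⁻¹
  rw [hA, hA', zpow_neg_one, inv_inv, Units.val_mk0, _root_.zpow_neg, zpow_natCast] at e
  rw [e]
  simp

theorem eq_of_preserving {dep : List ℕ} (hconn : okConn D dep = true) (hr : 0 < D.rank)
    (h : NF A.hF θ π c φ)
    (hpres : ∀ i j : Fin D.rank, D.cartan (π i).val (D.simple (π j).val) = D.cartan i.val (D.simple j.val)) :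
    ∀ i, φ i = φ ⟨0, hr⟩ := by
  intro i
  induction hd : dep.getD i.val 0 using Nat.strong_induction_on generalizing i with
  | _ d ih =>
    by_cases hi : i.val = 0
    · rw [show i = ⟨0, hr⟩ from Fin.ext hi]
    simp only [okConn, List.all_eq_true, List.mem_range, Bool.or_eq_true, beq_iff_eq, List.any_eq_true,
      Bool.and_eq_true, decide_eq_true_eq] at hconn
    obtain ⟨j, hj, hlt, hA⟩ := (hconn i.val i.isLt).resolve_left hi
    rw [← ih _ (hd ▸ hlt) ⟨j, hj⟩ rfl]
    refine RingEquiv.ext fun t => ?_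
    rcases hA with hA | hA
    · have := h.rel_pow (i := i) (j := ⟨j, hj⟩) hA one_ne_zero (by rw [hpres]; simpa using hA) t
      rw [pow_one] at this
      exact this.symm
    · have := h.rel_pow (i := ⟨j, hj⟩) (j := i) hA one_ne_zero (by rw [hpres]; simpa using hA) t
      rwa [pow_one] at this

theorem graphExp_self (D : ChevalleyDatum) (c i : ℕ) : D.graphExp c i i = 1 := by
  simp [ChevalleyDatum.graphExp]

theorem symm_one (D : ChevalleyDatum) : D.IsDiagramSymmetry (1 : Equiv.Perm (Fin D.rank)) := fun _ _ _ => rfl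

theorem common_one {dep : List ℕ} (hconn : okConn D dep = true) (hr : 0 < D.rank) (h : NF A.hF θ π c φ)
    (hπ : π = 1) : ∃ σ : RingAut F, (∀ i t, φ i t = σ t ^ D.graphExp (ringChar F) i.val (π i).val) ∧
      D.IsDiagramSymmetry π := by
  subst hπ
  refine ⟨φ ⟨0, hr⟩, fun i t => ?_, symm_one D⟩
  rw [eq_of_preserving hconn hr h (fun _ _ => rfl) i, Equiv.Perm.one_apply, graphExp_self, pow_one]

theorem common_simply (hsl : okSimply D = true) {dep : List ℕ} (hconn : okConn D dep = true) (hr : 0 < D.rank)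
    (h : NF A.hF θ π c φ) : ∃ σ : RingAut F, (∀ i t, φ i t = σ t ^ D.graphExp (ringChar F) i.val (π i).val) ∧
      D.IsDiagramSymmetry π := by
  simp only [okSimply, List.all_eq_true, List.mem_range, Bool.and_eq_true, Bool.not_eq_true', Bool.or_eq_true,
    beq_iff_eq, decide_eq_true_eq] at hsl
  have hpres : ∀ i j : Fin D.rank,
      D.cartan (π i).val (D.simple (π j).val) = D.cartan i.val (D.simple j.val) := by
    intro i j
    by_cases hij : i = j
    · subst hij
      rw [A.hF.cartan_simple _ (π i).isLt, A.hF.cartan_simple _ i.isLt]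
    have h1 := ((hsl i.val i.isLt).2 j.val j.isLt).resolve_left fun e => hij (Fin.ext e)
    have h2 := ((hsl _ (π i).isLt).2 _ (π j).isLt).resolve_left fun e => hij (π.injective (Fin.ext e))
    have h3 := h.adj A.hF i j hij
    omega
  refine ⟨φ ⟨0, hr⟩, fun i t => ?_, fun i j hij => ?_⟩
  · rw [eq_of_preserving hconn hr h hpres i]
    simp [ChevalleyDatum.graphExp, (hsl _ (π i).isLt).1]
  · simp only [ChevalleyDatum.bonds, hpres]

theorem common_G2 {A : AutData chevG2} [Finite F] {θ : MulAut ↥(chevG2.group F)}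
    {π : Equiv.Perm (Fin chevG2.rank)} {c : Fin chevG2.rank → Fˣ} {φ : Fin chevG2.rank → RingAut F}
    (h : NF A.hF θ π c φ) :
    ∃ σ : RingAut F, (∀ i t, φ i t = σ t ^ chevG2.graphExp (ringChar F) i.val (π i).val) ∧
      chevG2.IsDiagramSymmetry π := by
  have hm := h.mem_autos
  rw [show chevG2.rank = 2 from rfl, autos_G2] at hm
  simp only [List.mem_cons, List.not_mem_nil, or_false] at hm
  have e0 := permList_getD π ⟨0, by decide⟩
  have e1 := permList_getD π ⟨1, by decide⟩
  rcases hm with hm | hm <;> rw [hm] at e0 e1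
  · refine common_one okConn_G2 (by decide) h (Equiv.ext fun i => ?_)
    match i with
    | ⟨0, _⟩ => exact Fin.ext e0.symm
    | ⟨1, _⟩ => exact Fin.ext e1.symm
  · have hrel : ∀ t, φ ⟨0, by decide⟩ t = φ ⟨1, by decide⟩ t ^ 3 := fun t =>
      h.rel_pow (i := ⟨1, by decide⟩) (j := ⟨0, by decide⟩) (by decide +kernel) (by omega)
        (by rw [← e0, ← e1]; decide +kernel) t
    have hadd : ∀ a b : F, (a + b) ^ 3 = a ^ 3 + b ^ 3 := fun a b => by
      obtain ⟨a', rfl⟩ := (φ ⟨1, by decide⟩).surjective a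
      obtain ⟨b', rfl⟩ := (φ ⟨1, by decide⟩).surjective b
      rw [← map_add, ← hrel, ← hrel, ← hrel, map_add]
    refine ⟨φ ⟨1, by decide⟩, fun i t => ?_, ?_⟩
    · match i with
      | ⟨0, _⟩ =>
        rw [← e0, hrel t, show chevG2.graphExp (ringChar F) 0 ([1, 0].getD 0 0) = ringChar F by
          simp [ChevalleyDatum.graphExp, long_G2.1, long_G2.2]]
        rcases three_of_cube_additive hadd with h3 | h2
        · rw [h3]
        · rw [(two_elements h2 1 _ 3 (by omega)).2,
            (two_elements h2 1 _ _ (CharP.char_ne_zero_of_finite F (ringChar F))).2]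
      | ⟨1, _⟩ =>
        rw [← e1, show chevG2.graphExp (ringChar F) 1 ([1, 0].getD 1 0) = 1 by
          simp [ChevalleyDatum.graphExp, long_G2.1, long_G2.2], pow_one]
    · intro i j hij
      match i, j with
      | ⟨0, _⟩, ⟨0, _⟩ => exact absurd rfl hij
      | ⟨1, _⟩, ⟨1, _⟩ => exact absurd rfl hij
      | ⟨0, _⟩, ⟨1, _⟩ => rw [← e0, ← e1]; dsimp only; decide +kernel
      | ⟨1, _⟩, ⟨0, _⟩ => rw [← e0, ← e1]; dsimp only; decide +kernel

theorem common_B2 {A : AutData chevB2} {θ : MulAut ↥(chevB2.group F)}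
    {π : Equiv.Perm (Fin chevB2.rank)} {c : Fin chevB2.rank → Fˣ} {φ : Fin chevB2.rank → RingAut F}
    (h : NF A.hF θ π c φ) :
    ∃ σ : RingAut F, (∀ i t, φ i t = σ t ^ chevB2.graphExp (ringChar F) i.val (π i).val) ∧
      chevB2.IsDiagramSymmetry π := by
  have hm := h.mem_autos
  rw [show chevB2.rank = 2 from rfl, autos_B2] at hm
  simp only [List.mem_cons, List.not_mem_nil, or_false] at hm
  have e0 := permList_getD π ⟨0, by decide⟩
  have e1 := permList_getD π ⟨1, by decide⟩
  rcases hm with hm | hm <;> rw [hm] at e0 e1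
  · refine common_one okConn_B2 (by decide) h (Equiv.ext fun i => ?_)
    match i with
    | ⟨0, _⟩ => exact Fin.ext e0.symm
    | ⟨1, _⟩ => exact Fin.ext e1.symm
  · have hrel : ∀ t, φ ⟨0, by decide⟩ t = φ ⟨1, by decide⟩ t ^ 2 := fun t =>
      h.rel_pow (i := ⟨1, by decide⟩) (j := ⟨0, by decide⟩) (by decide +kernel) (by omega)
        (by rw [← e0, ← e1]; decide +kernel) t
    have hadd : ∀ a b : F, (a + b) ^ 2 = a ^ 2 + b ^ 2 := fun a b => by
      obtain ⟨a', rfl⟩ := (φ ⟨1, by decide⟩).surjective a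
      obtain ⟨b', rfl⟩ := (φ ⟨1, by decide⟩).surjective b
      rw [← map_add, ← hrel, ← hrel, ← hrel, map_add]
    refine ⟨φ ⟨1, by decide⟩, fun i t => ?_, ?_⟩
    · match i with
      | ⟨0, _⟩ =>
        rw [← e0, hrel t, show chevB2.graphExp (ringChar F) 0 ([1, 0].getD 0 0) = ringChar F by
          simp [ChevalleyDatum.graphExp, long_B2.1, long_B2.2], two_of_sq_additive hadd]
      | ⟨1, _⟩ =>
        rw [← e1, show chevB2.graphExp (ringChar F) 1 ([1, 0].getD 1 0) = 1 by
          simp [ChevalleyDatum.graphExp, long_B2.1, long_B2.2], pow_one]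
    · intro i j hij
      match i, j with
      | ⟨0, _⟩, ⟨0, _⟩ => exact absurd rfl hij
      | ⟨1, _⟩, ⟨1, _⟩ => exact absurd rfl hij
      | ⟨0, _⟩, ⟨1, _⟩ => rw [← e0, ← e1]; dsimp only; decide +kernel
      | ⟨1, _⟩, ⟨0, _⟩ => rw [← e0, ← e1]; dsimp only; decide +kernel

theorem common_F4 {A : AutData chevF4} {θ : MulAut ↥(chevF4.group F)}
    {π : Equiv.Perm (Fin chevF4.rank)} {c : Fin chevF4.rank → Fˣ} {φ : Fin chevF4.rank → RingAut F}
    (h : NF A.hF θ π c φ) :
    ∃ σ : RingAut F, (∀ i t, φ i t = σ t ^ chevF4.graphExp (ringChar F) i.val (π i).val) ∧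
      chevF4.IsDiagramSymmetry π := by
  have hm := h.mem_autos
  rw [show chevF4.rank = 4 from rfl, autos_F4] at hm
  simp only [List.mem_cons, List.not_mem_nil, or_false] at hm
  have e0 := permList_getD π ⟨0, by decide⟩
  have e1 := permList_getD π ⟨1, by decide⟩
  have e2 := permList_getD π ⟨2, by decide⟩
  have e3 := permList_getD π ⟨3, by decide⟩
  rcases hm with hm | hm <;> rw [hm] at e0 e1 e2 e3
  · refine common_one okConn_F4 (by decide) h (Equiv.ext fun i => ?_)
    match i with
    | ⟨0, _⟩ => exact Fin.ext e0.symm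
    | ⟨1, _⟩ => exact Fin.ext e1.symm
    | ⟨2, _⟩ => exact Fin.ext e2.symm
    | ⟨3, _⟩ => exact Fin.ext e3.symm
  · have r01 : ∀ t, φ ⟨0, by decide⟩ t = φ ⟨1, by decide⟩ t ^ 1 := fun t =>
      h.rel_pow (i := ⟨1, by decide⟩) (j := ⟨0, by decide⟩) (by decide +kernel) (by omega)
        (by rw [← e0, ← e1]; decide +kernel) t
    have r23 : ∀ t, φ ⟨2, by decide⟩ t = φ ⟨3, by decide⟩ t ^ 1 := fun t =>
      h.rel_pow (i := ⟨3, by decide⟩) (j := ⟨2, by decide⟩) (by decide +kernel) (by omega)
        (by rw [← e2, ← e3]; decide +kernel) t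
    have hrel : ∀ t, φ ⟨1, by decide⟩ t = φ ⟨2, by decide⟩ t ^ 2 := fun t =>
      h.rel_pow (i := ⟨2, by decide⟩) (j := ⟨1, by decide⟩) (by decide +kernel) (by omega)
        (by rw [← e1, ← e2]; decide +kernel) t
    have hadd : ∀ a b : F, (a + b) ^ 2 = a ^ 2 + b ^ 2 := fun a b => by
      obtain ⟨a', rfl⟩ := (φ ⟨2, by decide⟩).surjective a
      obtain ⟨b', rfl⟩ := (φ ⟨2, by decide⟩).surjective b
      rw [← map_add, ← hrel, ← hrel, ← hrel, map_add]
    refine ⟨φ ⟨2, by decide⟩, fun i t => ?_, ?_⟩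
    · match i with
      | ⟨0, _⟩ =>
        rw [← e0, r01 t, pow_one, hrel t, show chevF4.graphExp (ringChar F) 0 ([3, 2, 1, 0].getD 0 0) =
          ringChar F by simp [ChevalleyDatum.graphExp, long_F4.1, long_F4.2.2.2], two_of_sq_additive hadd]
      | ⟨1, _⟩ =>
        rw [← e1, hrel t, show chevF4.graphExp (ringChar F) 1 ([3, 2, 1, 0].getD 1 0) =
          ringChar F by simp [ChevalleyDatum.graphExp, long_F4.2.1, long_F4.2.2.1], two_of_sq_additive hadd]
      | ⟨2, _⟩ =>
        rw [← e2, show chevF4.graphExp (ringChar F) 2 ([3, 2, 1, 0].getD 2 0) = 1 by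
          simp [ChevalleyDatum.graphExp, long_F4.2.1, long_F4.2.2.1], pow_one]
      | ⟨3, _⟩ =>
        rw [← e3, show chevF4.graphExp (ringChar F) 3 ([3, 2, 1, 0].getD 3 0) = 1 by
          simp [ChevalleyDatum.graphExp, long_F4.1, long_F4.2.2.2], pow_one, r23 t, pow_one]
    · intro i j hij
      match i, j with
      | ⟨0, _⟩, ⟨0, _⟩ => exact absurd rfl hij
      | ⟨1, _⟩, ⟨1, _⟩ => exact absurd rfl hij
      | ⟨2, _⟩, ⟨2, _⟩ => exact absurd rfl hij
      | ⟨3, _⟩, ⟨3, _⟩ => exact absurd rfl hij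
      | ⟨0, _⟩, ⟨1, _⟩ => rw [← e0, ← e1]; dsimp only; decide +kernel
      | ⟨0, _⟩, ⟨2, _⟩ => rw [← e0, ← e2]; dsimp only; decide +kernel
      | ⟨0, _⟩, ⟨3, _⟩ => rw [← e0, ← e3]; dsimp only; decide +kernel
      | ⟨1, _⟩, ⟨0, _⟩ => rw [← e0, ← e1]; dsimp only; decide +kernel
      | ⟨1, _⟩, ⟨2, _⟩ => rw [← e1, ← e2]; dsimp only; decide +kernel
      | ⟨1, _⟩, ⟨3, _⟩ => rw [← e1, ← e3]; dsimp only; decide +kernel
      | ⟨2, _⟩, ⟨0, _⟩ => rw [← e0, ← e2]; dsimp only; decide +kernel
      | ⟨2, _⟩, ⟨1, _⟩ => rw [← e1, ← e2]; dsimp only; decide +kernel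
      | ⟨2, _⟩, ⟨3, _⟩ => rw [← e2, ← e3]; dsimp only; decide +kernel
      | ⟨3, _⟩, ⟨0, _⟩ => rw [← e0, ← e3]; dsimp only; decide +kernel
      | ⟨3, _⟩, ⟨1, _⟩ => rw [← e1, ← e3]; dsimp only; decide +kernel
      | ⟨3, _⟩, ⟨2, _⟩ => rw [← e2, ← e3]; dsimp only; decide +kernel

/-- The common field automorphism. -/
theorem NF.common [Finite F] (h : NF A.hF θ π c φ) :
    ∃ σ : RingAut F, (∀ i t, φ i t = σ t ^ D.graphExp (ringChar F) i.val (π i).val) ∧
      D.IsDiagramSymmetry π := by
  have hD := A.mem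
  simp only [List.mem_cons, List.not_mem_nil, or_false] at hD
  rcases hD with rfl | rfl | rfl | rfl | rfl | rfl | rfl
  · exact common_G2 h
  · exact common_B2 h
  · exact common_simply okSimply_D4 okConn_D4 (by decide) h
  · exact common_F4 h
  · exact common_simply okSimply_E6 okConn_E6 (by decide) h
  · exact common_simply okSimply_E7 okConn_E7 (by decide) h
  · exact common_simply okSimply_E8 okConn_E8 (by decide) h

end Cfsg.Agent.Small.ChevAut
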