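import Cfsg.Agent.Lib.Small.ChevAut.Exponent

/-!
An automorphism permuting the fundamental root elements of a simply laced group permutes all root elements up
to signs.
-/

set_option autoImplicit false
set_option synthInstance.maxHeartbeats 400000

namespace Cfsg.Agent.Small.ChevAut

open Cfsg.Lie Cfsg.Agent.Lie
open scoped MatrixGroups

/-- The permuted root, from the list of values of the permutation. -/
def permRootL (D : ChevalleyDatum) (L : List ℕ) (r : ℕ) : ℕ :=
  ((List.range D.nroots).find? fun s => (List.range D.rank).all fun i =>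
    (D.coroot.getD s #[]).getD (L.getD i 0) 0 == (D.coroot.getD r #[]).getD i 0).getD r

theorem permRoot_eq {D : ChevalleyDatum} (π : Equiv.Perm (Fin D.rank)) (r : ℕ) :
    D.permRoot π r = permRootL D (permList π) r := by
  unfold ChevalleyDatum.permRoot permRootL
  congr 1
  refine congrFun (congrArg List.find? (funext fun s => ?_)) _
  rw [Bool.eq_iff_iff, List.all_eq_true, List.all_eq_true]
  constructor
  · intro h i hi
    rw [List.mem_range] at hi
    have := h ⟨i, hi⟩ (List.mem_finRange _)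
    rwa [← permList_getD π ⟨i, hi⟩] at this
  · intro h i _
    have := h i.val (List.mem_range.2 i.isLt)
    rwa [permList_getD π i] at this

/-- The permuted root commutes with the reflections and extends the map of nodes. -/
def okPermRoot (D : ChevalleyDatum) (L : List ℕ) : Bool :=
  (List.range D.rank).all fun i =>
    permRootL D L (D.simple i) == D.simple (L.getD i 0) &&
      (List.range D.nroots).all fun r =>
        decide (permRootL D L r < D.nroots) &&
          permRootL D L (D.reflectRoot i r) == D.reflectRoot (L.getD i 0) (permRootL D L r)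

theorem okPermRoot_D4 : ∀ L ∈ autos chevD4 4, okPermRoot chevD4 L = true := by
  rw [autos_D4]
  decide +kernel

theorem okPermRoot_E6 : ∀ L ∈ autos chevE6 6, okPermRoot chevE6 L = true := by
  rw [autos_E6]
  decide +kernel

theorem graph_roots {D : ChevalleyDatum} {F : Type*} [Field F] (hD : D ∈ [chevD4, chevE6])
    (π : Equiv.Perm (Fin D.rank)) (hπ : D.IsDiagramSymmetry π) (φ : ↥(D.group F) ≃* ↥(D.group F))
    (hφ : ∀ (g : ↥(D.group F)) (i : Fin D.rank) (t : F),
      (((g : GL D.Idx F) : Matrix D.Idx D.Idx F) = D.x F (D.simple i) t →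
        ((φ g : GL D.Idx F) : Matrix D.Idx D.Idx F) = D.x F (D.simple (π i)) t) ∧
      (((g : GL D.Idx F) : Matrix D.Idx D.Idx F) = D.x F (D.neg (D.simple i)) t →
        ((φ g : GL D.Idx F) : Matrix D.Idx D.Idx F) = D.x F (D.neg (D.simple (π i))) t))
    (r : ℕ) (hr : r < D.nroots) :
    ∃ ε : F, (ε = 1 ∨ ε = -1) ∧ ∀ (g : ↥(D.group F)) (t : F),
      ((g : GL D.Idx F) : Matrix D.Idx D.Idx F) = D.x F r t →
        ((φ g : GL D.Idx F) : Matrix D.Idx D.Idx F) = D.x F (D.permRoot π r) (ε * t) := by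
  have hD7 : D ∈ [chevG2, chevB2, chevD4, chevF4, chevE6, chevE7, chevE8] := by
    simp only [List.mem_cons, List.not_mem_nil, or_false] at hD ⊢
    tauto
  obtain ⟨A⟩ := autData_of_mem hD7
  set hF := A.hF
  have hsl : okSimply D = true := by
    simp only [List.mem_cons, List.not_mem_nil, or_false] at hD
    rcases hD with rfl | rfl
    exacts [okSimply_D4, okSimply_E6]
  have hnf : NF hF φ π (1 : Fin D.rank → Fˣ) (fun _ => (1 : RingAut F)) := by
    intro i t
    simp only [Pi.one_apply, Units.val_one, inv_one, one_mul, RingAut.one_apply]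
    exact ⟨(eq_xG hF).1 ((hφ _ i t).1 rfl), (eq_xG hF).1 ((hφ _ i t).2 rfl)⟩
  have hL : okPermRoot D (permList π) = true := by
    simp only [List.mem_cons, List.not_mem_nil, or_false] at hD
    rcases hD with rfl | rfl
    exacts [okPermRoot_D4 _ hnf.mem_autos, okPermRoot_E6 _ hnf.mem_autos]
  simp only [okPermRoot, List.all_eq_true, List.mem_range, Bool.and_eq_true, beq_iff_eq, decide_eq_true_eq]
    at hL
  suffices h : ∀ r, r < D.nroots → ∃ ε : F, (ε = 1 ∨ ε = -1) ∧
      ∀ t, φ (xG hF r t) = xG hF (D.permRoot π r) (ε * t) by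
    obtain ⟨ε, hε, h⟩ := h r hr
    refine ⟨ε, hε, fun g t hg => ?_⟩
    rw [(eq_xG hF).1 hg, h t]
    rfl
  refine hF.simple_induction _ (fun i hi => ⟨1, Or.inl rfl, fun t => ?_⟩) fun i hi r hr ih => ?_
  · rw [permRoot_eq, (hL i hi).1, permList_getD π ⟨i, hi⟩, one_mul]
    exact (eq_xG hF).1 ((hφ _ ⟨i, hi⟩ t).1 rfl)
  obtain ⟨ε, hε, hεt⟩ := ih
  obtain ⟨⟨hlt, heq⟩⟩ : Nonempty (D.permRoot π r < D.nroots ∧
      D.permRoot π (D.reflectRoot i r) = D.reflectRoot (π ⟨i, hi⟩).val (D.permRoot π r)) := by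
    have h := (hL i hi).2 r hr
    refine ⟨?_, ?_⟩
    · rw [permRoot_eq]; exact h.1
    · rw [permRoot_eq, permRoot_eq, h.2, permList_getD π ⟨i, hi⟩]
  set a := hF.sgn F i r
  set b := hF.sgn F (π ⟨i, hi⟩).val (D.permRoot π r)
  have ha : a * a = 1 := hF.sgn_mul_self hi hr
  have hb : b * b = 1 := hF.sgn_mul_self (π ⟨i, hi⟩).isLt hlt
  have pm : ∀ {x : F}, x * x = 1 → x = 1 ∨ x = -1 := fun h => mul_self_eq_one_iff.1 h
  refine ⟨b * ε * a, pm ?_, fun t => ?_⟩
  · rcases hε with rfl | rfl <;> linear_combination (b * b) * ha + hb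
  have e : xG hF (D.reflectRoot i r) t =
      ⟨hF.ng (D.simple i) 1, hF.wg_mem_group _⟩ * xG hF r (a * t) *
        (⟨hF.ng (D.simple i) 1, hF.wg_mem_group _⟩)⁻¹ := by
    refine Subtype.ext ?_
    show hF.xg _ t = hF.ng _ 1 * hF.xg r (a * t) * (hF.ng _ 1)⁻¹
    rw [hF.ng_conj i hi r hr, ← mul_assoc, ha, one_mul]
  rw [e, map_mul, map_mul, map_inv, hεt]
  refine Subtype.ext ?_
  simp only [Subgroup.coe_mul, Subgroup.coe_inv, coe_xG]
  rw [hnf.map_ng hF ⟨i, hi⟩ one_ne_zero]
  simp only [Pi.one_apply, Units.val_one, map_one, mul_one]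
  rw [hF.ng_conj _ (π ⟨i, hi⟩).isLt _ hlt, heq, mul_assoc b ε a, mul_assoc b (ε * a) t, mul_assoc ε a t]

end Cfsg.Agent.Small.ChevAut
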