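import Cfsg.Agent.Lib.Small.ChevAut.Simple
import Cfsg.Agent.Lib.Small.FieldGraphCommute

/-!
The normal form of an automorphism fixing U and V: on the fundamental root elements it is
`x_i(t) ↦ x_{π i}(c_i φ_i(t))` with field automorphisms φ_i tied together by the Cartan integers.
-/

set_option autoImplicit false
set_option synthInstance.maxHeartbeats 400000
set_option linter.style.haveILetI false

namespace Cfsg.Agent.Small.ChevAut

open Cfsg.Lie Cfsg.Agent.Lie
open scoped MatrixGroups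

variable {D : ChevalleyDatum} {F : Type*} [Field F] (hF : Facts D)

/-- The normal form. -/
def NF (θ : MulAut ↥(D.group F)) (π : Equiv.Perm (Fin D.rank)) (c : Fin D.rank → Fˣ)
    (φ : Fin D.rank → RingAut F) : Prop :=
  ∀ i t, θ (xG hF (D.simple i.val) t) = xG hF (D.simple (π i).val) ((c i : F) * φ i t) ∧
    θ (xG hF (D.neg (D.simple i.val)) t) = xG hF (D.neg (D.simple (π i).val)) ((c i : F)⁻¹ * φ i t)

theorem ext_simple {θ θ' : MulAut ↥(D.group F)}
    (h : ∀ (i : Fin D.rank) (t : F), θ (xG hF (D.simple i.val) t) = θ' (xG hF (D.simple i.val) t) ∧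
      θ (xG hF (D.neg (D.simple i.val)) t) = θ' (xG hF (D.neg (D.simple i.val)) t)) : θ = θ' := by
  let E : Subgroup ↥(D.group F) := MonoidHom.eqLocus θ.toMonoidHom θ'.toMonoidHom
  have hE : D.group F ≤ E.map (D.group F).subtype := by
    refine FieldGraph.group_le_of_simple hF _ fun i hi t => ⟨?_, ?_⟩
    · exact ⟨xG hF _ t, (h ⟨i, hi⟩ t).1, rfl⟩
    · exact ⟨xG hF _ t, (h ⟨i, hi⟩ t).2, rfl⟩
  refine MulEquiv.ext fun y => ?_
  obtain ⟨z, hz, hzy⟩ := hE y.2
  rw [← show z = y from Subtype.ext hzy]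
  exact hz

variable {θ θ' : MulAut ↥(D.group F)} {π π' : Equiv.Perm (Fin D.rank)} {c c' : Fin D.rank → Fˣ}
  {φ φ' : Fin D.rank → RingAut F}

theorem NF.unique (h : NF hF θ π c φ) (h' : NF hF θ π' c' φ') : π = π' ∧ c = c' ∧ φ = φ' := by
  have hπ : π = π' := Equiv.ext fun i => simple_inj hF (xG_root_inj hF (hF.simple_lt _ (π i).isLt)
    (hF.simple_lt _ (π' i).isLt) (by simp) ((h i 1).1.symm.trans (h' i 1).1))
  subst hπ
  have hc : c = c' := funext fun i => Units.ext (by
    simpa using xG_inj hF (hF.simple_lt _ (π i).isLt) ((h i 1).1.symm.trans (h' i 1).1))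
  subst hc
  exact ⟨rfl, rfl, funext fun i => RingEquiv.ext fun t =>
    mul_left_cancel₀ (c i).ne_zero (xG_inj hF (hF.simple_lt _ (π i).isLt) ((h i t).1.symm.trans (h' i t).1))⟩

theorem NF.ext (h : NF hF θ π c φ) (h' : NF hF θ' π c φ) : θ = θ' :=
  ext_simple hF fun i t => ⟨(h i t).1.trans (h' i t).1.symm, (h i t).2.trans (h' i t).2.symm⟩

theorem NF.one : NF hF 1 (1 : Equiv.Perm (Fin D.rank)) (1 : Fin D.rank → Fˣ) (fun _ => (1 : RingAut F)) := by
  intro i t
  simp

theorem NF.mul (h : NF hF θ π c φ) (h' : NF hF θ' π' c' φ') :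
    NF hF (θ * θ') (π * π') (fun i => c (π' i) * Units.map (φ (π' i)).toRingHom.toMonoidHom (c' i))
      (fun i => φ (π' i) * φ' i) := by
  intro i t
  constructor
  · rw [MulAut.mul_apply, (h' i t).1, (h (π' i) _).1]
    congr 1
    simp [mul_assoc]
  · rw [MulAut.mul_apply, (h' i t).2, (h (π' i) _).2]
    congr 1
    simp [mul_assoc, mul_comm, mul_left_comm]

/-! ### Consequences of the normal form -/

theorem NF.map_ng (h : NF hF θ π c φ) (i : Fin D.rank) {t : F} (ht : t ≠ 0) :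
    (θ ⟨hF.ng (D.simple i.val) t, hF.wg_mem_group _⟩ : GL D.Idx F) =
      hF.ng (D.simple (π i).val) ((c i : F) * φ i t) := by
  have e : (⟨hF.ng (D.simple i.val) t, hF.wg_mem_group _⟩ : ↥(D.group F)) =
      xG hF (D.simple i.val) t * xG hF (D.neg (D.simple i.val)) (-t⁻¹) * xG hF (D.simple i.val) t :=
    Subtype.ext (hF.ng_eq _ t)
  rw [e, map_mul, map_mul, (h i t).1, (h i _).2, Subgroup.coe_mul, Subgroup.coe_mul, coe_xG, coe_xG,
    hF.ng_eq]
  congr 3
  simp [mul_comm]

theorem NF.map_hg (h : NF hF θ π c φ) (i : Fin D.rank) {t : F} (ht : t ≠ 0) :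
    (θ ⟨hF.hg (D.simple i.val) t, hF.wg_mem_group _⟩ : GL D.Idx F) =
      hF.hg (D.simple (π i).val) ((c i : F) * φ i t) * (hF.hg (D.simple (π i).val) (c i : F))⁻¹ := by
  have e : (⟨hF.hg (D.simple i.val) t, hF.wg_mem_group _⟩ : ↥(D.group F)) =
      ⟨hF.ng (D.simple i.val) t, hF.wg_mem_group _⟩ * ⟨hF.ng (D.simple i.val) (-1), hF.wg_mem_group _⟩ :=
    Subtype.ext (hF.hg_eq _ t)
  rw [e, map_mul, Subgroup.coe_mul, h.map_ng hF i ht, h.map_ng hF i (neg_ne_zero.2 one_ne_zero),
    ng_eq_hg hF _ ((c i : F) * φ i t), map_neg, map_one, mul_neg, mul_one, hF.ng_neg, ng_eq_hg hF _ (c i : F)]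
  group

/-- The relation between the field automorphisms of two nodes. -/
theorem NF.rel (h : NF hF θ π c φ) (i j : Fin D.rank) (t : Fˣ) :
    φ j ((t ^ D.cartan i.val (D.simple j.val) : Fˣ) : F) =
      ((Units.map (φ i).toRingHom.toMonoidHom t) ^ D.cartan (π i).val (D.simple (π j).val) : Fˣ) := by
  set u : Fˣ := Units.map (φ i).toRingHom.toMonoidHom t with hu
  set A' := D.cartan (π i).val (D.simple (π j).val) with hA'
  have hj := hF.simple_lt j j.isLt
  have hj' := hF.simple_lt _ (π j).isLt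
  have e1 := h.map_hg hF i t.ne_zero
  rw [show (c i : F) * φ i (t : F) = ((c i * u : Fˣ) : F) from rfl] at e1
  have e2 : θ (⟨hF.hg (D.simple i.val) (t : F), hF.wg_mem_group _⟩ * xG hF (D.simple j.val) 1 *
      (⟨hF.hg (D.simple i.val) (t : F), hF.wg_mem_group _⟩)⁻¹) =
      θ (xG hF (D.simple j.val) (((t ^ D.cartan i.val (D.simple j.val) : Fˣ) : F) * 1)) :=
    congrArg θ (Subtype.ext (hg_conj hF i t hj 1))
  rw [map_mul, map_mul, map_inv, (h j _).1, (h j _).1] at e2
  have e3 := congrArg Subtype.val e2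
  simp only [Subgroup.coe_mul, Subgroup.coe_inv, coe_xG, map_one, mul_one] at e3
  rw [e1] at e3
  have k1 := hg_conj hF (π i) (c i * u) hj' (((c i ^ A' : Fˣ) : F)⁻¹ * (c j : F))
  have k2 := hg_conj hF (π i) (c i) hj' (((c i ^ A' : Fˣ) : F)⁻¹ * (c j : F))
  rw [← hA'] at k1 k2
  rw [← mul_assoc ((c i ^ A' : Fˣ) : F), mul_inv_cancel₀ (Units.ne_zero _), one_mul] at k2
  rw [← k2, show ∀ x y z : GL D.Idx F, x * y⁻¹ * (y * z * y⁻¹) * (x * y⁻¹)⁻¹ = x * z * x⁻¹ from
    fun x y z => by group, k1] at e3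
  have e4 := xg_inj hF hj' e3
  rw [mul_zpow, Units.val_mul, mul_comm ((c i ^ A' : Fˣ) : F), mul_assoc,
    mul_inv_cancel_left₀ (Units.ne_zero _), mul_comm] at e4
  exact (mul_left_cancel₀ (c j).ne_zero e4).symm

include hF in
theorem refl_eq_self_iff (i j : Fin D.rank) (hij : i ≠ j) :
    D.reflectRoot i.val (D.simple j.val) = D.simple j.val ↔ D.cartan i.val (D.simple j.val) = 0 := by
  constructor
  · intro h
    have := hF.cartan_refl i.val i.isLt _ (hF.simple_lt j j.isLt) i.val i.isLt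
    rw [h, hF.cartan_simple i.val i.isLt] at this
    omega
  · intro h
    have h1 : D.simple j.val ≠ D.simple i.val := fun e => hij (simple_inj hF e).symm
    have h2 := simple_ne_neg hF j i
    simp [ChevalleyDatum.reflectRoot, h, h1, h2]

/-- The permutation preserves adjacency. -/
theorem NF.adj (h : NF hF θ π c φ) (i j : Fin D.rank) (hij : i ≠ j) :
    D.cartan i.val (D.simple j.val) = 0 ↔ D.cartan (π i).val (D.simple (π j).val) = 0 := by
  have hπ : π i ≠ π j := fun e => hij (π.injective e)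
  rw [← refl_eq_self_iff hF i j hij, ← refl_eq_self_iff hF (π i) (π j) hπ]
  have hj := hF.simple_lt j j.isLt
  have hj' := hF.simple_lt _ (π j).isLt
  set n : ↥(D.group F) := ⟨hF.ng (D.simple i.val) 1, hF.wg_mem_group _⟩ with hn
  have e1 : (θ n : GL D.Idx F) = hF.hg (D.simple (π i).val) (c i : F) * hF.ng (D.simple (π i).val) 1 := by
    rw [hn, h.map_ng hF i one_ne_zero, map_one, mul_one, ng_eq_hg hF _ (c i : F)]
  have e2 : n * xG hF (D.simple j.val) 1 * n⁻¹ =
      xG hF (D.reflectRoot i.val (D.simple j.val)) (hF.sgn F i.val (D.simple j.val) * 1) :=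
    Subtype.ext (hF.ng_conj i.val i.isLt _ hj 1)
  have e3 : ((θ (n * xG hF (D.simple j.val) 1 * n⁻¹) : ↥(D.group F)) : GL D.Idx F) =
      hF.xg (D.reflectRoot (π i).val (D.simple (π j).val))
        (((c i ^ D.cartan (π i).val (D.reflectRoot (π i).val (D.simple (π j).val)) : Fˣ) : F) *
          (hF.sgn F (π i).val (D.simple (π j).val) * ((c j : F) * φ j 1))) := by
    rw [map_mul, map_mul, map_inv, (h j 1).1]
    simp only [Subgroup.coe_mul, Subgroup.coe_inv, coe_xG]
    rw [e1, show ∀ x y z : GL D.Idx F, x * y * z * (x * y)⁻¹ = x * (y * z * y⁻¹) * x⁻¹ from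
      fun x y z => by group, hF.ng_conj _ (π i).isLt _ hj', hg_conj hF (π i) (c i)
      (hF.refl_lt _ (π i).isLt _ hj')]
  have hs : hF.sgn F i.val (D.simple j.val) * 1 ≠ 0 := by
    rw [mul_one]; exact left_ne_zero_of_mul_eq_one (hF.sgn_mul_self i.isLt hj)
  have hs' : ((c i ^ D.cartan (π i).val (D.reflectRoot (π i).val (D.simple (π j).val)) : Fˣ) : F) *
      (hF.sgn F (π i).val (D.simple (π j).val) * ((c j : F) * φ j 1)) ≠ 0 := by
    rw [map_one, mul_one]
    exact mul_ne_zero (Units.ne_zero _)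
      (mul_ne_zero (left_ne_zero_of_mul_eq_one (hF.sgn_mul_self (π i).isLt hj')) (c j).ne_zero)
  constructor
  · intro hr
    rw [e2, hr, (h j _).1, coe_xG] at e3
    exact xg_root_inj hF (hF.refl_lt _ (π i).isLt _ hj') hj' hs' e3.symm
  · intro hr
    rw [e2] at e3
    generalize hw : ((c i ^ D.cartan (π i).val (D.reflectRoot (π i).val (D.simple (π j).val)) : Fˣ) : F) *
      (hF.sgn F (π i).val (D.simple (π j).val) * ((c j : F) * φ j 1)) = w at e3 hs'
    rw [hr] at e3
    obtain ⟨v, hv⟩ : ∃ v, (c j : F) * φ j v = w :=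
      ⟨(φ j).symm ((c j : F)⁻¹ * w), by rw [RingEquiv.apply_symm_apply, mul_inv_cancel_left₀ (c j).ne_zero]⟩
    have e4 := θ.injective (Subtype.ext (e3.trans (by rw [(h j v).1, hv, coe_xG]) :
      ((θ _ : ↥(D.group F)) : GL D.Idx F) = (θ (xG hF (D.simple j.val) v) : ↥(D.group F))))
    exact xG_root_inj hF (hF.refl_lt _ i.isLt _ hj) hj hs e4

/-! ### Existence -/

/-- A function with f(t²u) = f(t)²f(u), additive, bijective, with f 1 = 1 is a field automorphism. -/
theorem ringAut_of_sq [Finite F] {f : F → F} (hbij : Function.Bijective f) (hadd : ∀ a b, f (a + b) = f a + f b)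
    (h1 : f 1 = 1) (hsq : ∀ t u, f (t ^ 2 * u) = f t ^ 2 * f u) : ∃ σ : RingAut F, ∀ t, σ t = f t := by
  have hmul : ∀ a b, f (a * b) = f a * f b := by
    intro a b
    by_cases h2 : (2 : F) = 0
    · have hinj : Function.Injective fun x : F => x ^ 2 := by
        intro x y hxy
        have h' : (x - y) ^ 2 = 0 := by
          simp only at hxy
          linear_combination hxy + (y ^ 2 - x * y) * h2
        exact sub_eq_zero.1 (pow_eq_zero_iff two_ne_zero |>.1 h')
      obtain ⟨t, rfl⟩ := (Finite.injective_iff_surjective.1 hinj) a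
      have h3 := hsq t 1
      rw [h1, mul_one, mul_one] at h3
      rw [hsq, h3]
    · have e := hsq (a + 1) b
      rw [show (a + 1) ^ 2 * b = a ^ 2 * b + (a * b + a * b) + b by ring, hadd, hadd, hadd, hsq, hadd a 1,
        h1] at e
      refine mul_left_cancel₀ h2 ?_
      linear_combination e
  exact ⟨RingEquiv.mk (Equiv.ofBijective f hbij) hmul hadd, fun t => rfl⟩

/-- Every automorphism fixing U and V has a normal form. -/
theorem exists_NF [Finite F]
    (hpm : ∀ i j : Fin D.rank, i ≠ j → D.commTerms (D.neg (D.simple i.val)) (D.simple j.val) = [])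
    (hθ : θ ∈ Std D F) : ∃ π c φ, NF hF θ π c φ := by
  obtain ⟨π, f, g, hfg⟩ := exists_maps hF hpm hθ
  suffices hnode : ∀ i, ∃ (c : Fˣ) (φ : RingAut F), ∀ t, f i t = (c : F) * φ t ∧ g i t = (c : F)⁻¹ * φ t by
    choose c φ hcφ using hnode
    exact ⟨π, c, φ, fun i t => ⟨by rw [(hfg i t).1, (hcφ i t).1], by rw [(hfg i t).2, (hcφ i t).2]⟩⟩
  intro i
  have hα := hF.simple_lt i i.isLt
  have hαn := hF.neg_lt hα
  have hπ := hF.simple_lt _ (π i).isLt
  have hπn := hF.neg_lt hπ
  have hfadd : ∀ a b, f i (a + b) = f i a + f i b := by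
    intro a b
    refine xG_inj hF hπ ?_
    rw [← (hfg i _).1, xG_add, map_mul, (hfg i _).1, (hfg i _).1, xG_add]
  have hfinj : Function.Injective (f i) := by
    intro a b hab
    refine xG_inj hF hα (θ.injective ?_)
    rw [(hfg i a).1, (hfg i b).1, hab]
  have hf0 : f i 0 = 0 := by
    have := hfadd 0 0
    rw [add_zero] at this
    exact left_eq_add.1 this
  have hne : ∀ t, t ≠ 0 → f i t ≠ 0 := fun t ht h => ht (hfinj (h.trans hf0.symm))
  have hneg : ∀ a, f i (-a) = -f i a := by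
    intro a
    rw [eq_neg_iff_add_eq_zero, ← hfadd, neg_add_cancel, hf0]
  have hng : ∀ t : F, (θ ⟨hF.ng (D.simple i.val) t, hF.wg_mem_group _⟩ : GL D.Idx F) =
      hF.xg (D.simple (π i).val) (f i t) * hF.xg (D.neg (D.simple (π i).val)) (g i (-t⁻¹)) *
        hF.xg (D.simple (π i).val) (f i t) := by
    intro t
    rw [show (⟨hF.ng (D.simple i.val) t, hF.wg_mem_group _⟩ : ↥(D.group F)) =
      xG hF (D.simple i.val) t * xG hF (D.neg (D.simple i.val)) (-t⁻¹) * xG hF (D.simple i.val) t from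
      Subtype.ext (hF.ng_eq _ t), map_mul, map_mul, (hfg i t).1, (hfg i _).2]
    rfl
  -- the images of the representatives
  have hgf : ∀ t, t ≠ 0 → g i (-t⁻¹) = -(f i t)⁻¹ := by
    intro t ht
    obtain ⟨u, hu⟩ : ∃ u, f i u = 1 := (Finite.injective_iff_surjective.1 hfinj) 1
    have e : (⟨hF.ng (D.simple i.val) t, hF.wg_mem_group _⟩ : ↥(D.group F)) * xG hF (D.simple i.val) u *
        (⟨hF.ng (D.simple i.val) t, hF.wg_mem_group _⟩)⁻¹ =
        xG hF (D.neg (D.simple i.val)) (-(u / t ^ 2)) := Subtype.ext (ng_conj_pos hF i ht u)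
    have e' := congrArg (fun z => ((θ z : ↥(D.group F)) : GL D.Idx F)) e
    simp only [map_mul, map_inv, Subgroup.coe_mul, Subgroup.coe_inv] at e'
    rw [hng t, (hfg i u).1, (hfg i _).2, hu] at e'
    have h1 := exchange_eq hF (π i) e'
    have hf := hne t ht
    rw [← neg_one_mul ((f i t)⁻¹), ← h1, mul_right_comm, mul_inv_cancel₀ hf, one_mul]
  have himg : ∀ t, t ≠ 0 → (θ ⟨hF.ng (D.simple i.val) t, hF.wg_mem_group _⟩ : GL D.Idx F) =
      hF.ng (D.simple (π i).val) (f i t) := by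
    intro t ht
    rw [hng t, hgf t ht, hF.ng_eq]
  have hc0 := hne 1 one_ne_zero
  have hg' : ∀ u, g i u = f i u / f i 1 ^ 2 := by
    intro u
    have e : (⟨hF.ng (D.simple i.val) 1, hF.wg_mem_group _⟩ : ↥(D.group F)) * xG hF (D.simple i.val) (-u) *
        (⟨hF.ng (D.simple i.val) 1, hF.wg_mem_group _⟩)⁻¹ =
        xG hF (D.neg (D.simple i.val)) u := Subtype.ext (by
      show hF.ng _ 1 * hF.xg _ (-u) * (hF.ng _ 1)⁻¹ = hF.xg _ u
      rw [ng_one_conj hF i, neg_neg])
    have e' := congrArg (fun z => ((θ z : ↥(D.group F)) : GL D.Idx F)) e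
    simp only [map_mul, map_inv, Subgroup.coe_mul, Subgroup.coe_inv] at e'
    rw [himg 1 one_ne_zero, (hfg i _).1, (hfg i _).2, coe_xG, coe_xG, ng_conj_pos hF _ hc0, hneg] at e'
    have := xg_inj hF hπn e'
    rw [← this, neg_div, neg_neg]
  have hsq : ∀ t u, t ≠ 0 → f i (t ^ 2 * u) = (f i t / f i 1) ^ 2 * f i u := by
    intro t u ht
    set d := f i 1 with hd
    have hft := hne t ht
    have e0 : (θ ⟨hF.hg (D.simple i.val) t, hF.wg_mem_group _⟩ : GL D.Idx F) =
        hF.hg (D.simple (π i).val) (f i t) * (hF.hg (D.simple (π i).val) d)⁻¹ := by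
      rw [show (⟨hF.hg (D.simple i.val) t, hF.wg_mem_group _⟩ : ↥(D.group F)) =
        ⟨hF.ng (D.simple i.val) t, hF.wg_mem_group _⟩ * ⟨hF.ng (D.simple i.val) (-1), hF.wg_mem_group _⟩ from
        Subtype.ext (hF.hg_eq _ t), map_mul, Subgroup.coe_mul, himg t ht,
        himg (-1) (neg_ne_zero.2 one_ne_zero), hneg, hF.ng_neg, ng_eq_hg hF _ (f i t), ng_eq_hg hF _ d]
      group
    have e := hg_conj hF i (Units.mk0 t ht) hα u
    have e' : θ (⟨hF.hg (D.simple i.val) t, hF.wg_mem_group _⟩ * xG hF (D.simple i.val) u *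
        (⟨hF.hg (D.simple i.val) t, hF.wg_mem_group _⟩)⁻¹) = θ (xG hF (D.simple i.val) (t ^ 2 * u)) := by
      refine congrArg θ (Subtype.ext ?_)
      rw [hF.cartan_simple i.val i.isLt] at e
      simpa [zpow_ofNat] using e
    rw [map_mul, map_mul, map_inv, (hfg i _).1, (hfg i _).1] at e'
    have e'' := congrArg Subtype.val e'
    simp only [Subgroup.coe_mul, Subgroup.coe_inv, coe_xG] at e''
    rw [e0] at e''
    have k1 := hg_conj hF (π i) (Units.mk0 (f i t) hft) hπ (f i u / d ^ 2)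
    have k2 := hg_conj hF (π i) (Units.mk0 d hc0) hπ (f i u / d ^ 2)
    rw [hF.cartan_simple _ (π i).isLt, Units.val_mk0] at k1 k2
    have hk : ((Units.mk0 d hc0 ^ (2 : ℤ) : Fˣ) : F) * (f i u / d ^ 2) = f i u := by
      simp [zpow_ofNat]
      field_simp
    rw [hk] at k2
    rw [← k2, show ∀ x y z : GL D.Idx F, x * y⁻¹ * (y * z * y⁻¹) * (x * y⁻¹)⁻¹ = x * z * x⁻¹ from
      fun x y z => by group, k1] at e''
    rw [← xg_inj hF hπ e'']
    simp [zpow_ofNat]
    field_simp
  set f₁ : F → F := fun t => f i t / f i 1 with hf₁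
  obtain ⟨σ, hσ⟩ := ringAut_of_sq (f := f₁)
    (Finite.injective_iff_bijective.1 fun a b h => hfinj (by simpa [hf₁, hc0] using h))
    (fun a b => by simp [hf₁, hfadd, add_div]) (by simp [hf₁, hc0]) (fun t u => by
      by_cases ht : t = 0
      · subst ht; simp [hf₁, hf0]
      · simp only [hf₁]
        rw [hsq t u ht, mul_div_assoc])
  refine ⟨Units.mk0 (f i 1) hc0, σ, fun t => ?_⟩
  rw [hσ, Units.val_mk0, hg', hf₁]
  constructor <;> field_simp

end Cfsg.Agent.Small.ChevAut
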