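import Cfsg.Agent.Lib.Small.ChevAut.Position
import Cfsg.Agent.Lib.Lie.Tits

/-!
An automorphism fixing U and V permutes the root subgroups of the fundamental roots and of their negatives,
by one and the same permutation of the nodes.
-/

set_option autoImplicit false
set_option synthInstance.maxHeartbeats 400000
set_option linter.style.haveILetI false

namespace Cfsg.Agent.Small.ChevAut

open Cfsg.Lie Cfsg.Agent.Lie
open scoped MatrixGroups

variable {D : ChevalleyDatum} {F : Type*} [Field F] (hF : Facts D)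

/-- A minimal parabolic subgroup. -/
noncomputable def PG (i : Fin D.rank) : Subgroup ↥(D.group F) :=
  (hF.bnPair F).parabolic {⟨(hF.tsys F).nS i, hF.nS_mem_group i⟩}

theorem mem_bnB {g : ↥(D.group F)} : g ∈ (hF.bnPair F).B ↔ (g : GL D.Idx F) ∈ (hF.tsys F).B := by
  rw [hF.tsys_B]; exact Iff.rfl

theorem nS_not_bnB (i : Fin D.rank) :
    (⟨(hF.tsys F).nS i, hF.nS_mem_group i⟩ : ↥(D.group F)) ∉ (hF.bnPair F).B := fun h =>
  hF.nS_not_mem_B i ((mem_bnB hF).1 h)

theorem mem_PG {i : Fin D.rank} {g : ↥(D.group F)} (hg : g ∈ PG hF i) :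
    (g : GL D.Idx F) ∈ (hF.tsys F).B ∨ ∃ b ∈ (hF.tsys F).B, ∃ a : F,
      (g : GL D.Idx F) = b * (hF.tsys F).nS i * hF.xg (D.simple i.val) a := by
  set s : ↥(D.group F) := ⟨(hF.tsys F).nS i, hF.nS_mem_group i⟩ with hs
  have hJ : ({s} : Set ↥(D.group F)) ⊆ (hF.bnPair F).S := by
    rintro x rfl
    exact ⟨i, rfl⟩
  have hword : ∀ ω : List ↥(D.group F), (∀ x ∈ ω, x = s) →
      Tits.Cong (hF.bnPair F) ω.prod 1 ∨ Tits.Cong (hF.bnPair F) ω.prod s := by
    intro ω
    induction ω with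
    | nil => intro _; exact Or.inl (Tits.Cong.refl 1)
    | cons x τ ih =>
      intro h
      have hx : x = s := h x List.mem_cons_self
      subst hx
      rw [List.prod_cons]
      rcases ih fun y hy => h y (List.mem_cons_of_mem _ hy) with h1 | h1
      · exact Or.inr (by simpa using h1.mul_left s)
      · refine Or.inl ((h1.mul_left s).trans ?_)
        have := Tits.sq_cancel (P := hF.bnPair F) (hJ rfl) (n := 1) (one_mem _)
        simpa using this
  obtain ⟨n, hn, hgn⟩ := (Tits.mem_parabolic (P := hF.bnPair F) hJ).1 hg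
  obtain ⟨ω, -, hω, hc⟩ := Tits.closure_cong_word (P := hF.bnPair F) hJ (Subgroup.mem_sup_left hn)
  rw [← Tits.DC_congr hc] at hgn
  rcases hword ω hω with h1 | h1
  · rw [Tits.DC_congr h1, Tits.mem_DC_iff_B (one_mem _)] at hgn
    exact Or.inl ((mem_bnB hF).1 hgn)
  · rw [Tits.DC_congr h1] at hgn
    obtain ⟨x, hx, y, hy, rfl⟩ := DoubleCoset.mem_doubleCoset.1 hgn
    obtain ⟨a, ha, u, hu, hye⟩ := (hF.tsys F).mem_B' ((mem_bnB hF).1 hy)
    obtain ⟨v, hv, t, rfl⟩ := (hF.tsys F).U_split i hu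
    refine Or.inr ⟨(x : GL D.Idx F) * ((hF.tsys F).nS i * a * ((hF.tsys F).nS i)⁻¹) *
      ((hF.tsys F).nS i * v * ((hF.tsys F).nS i)⁻¹), mul_mem (mul_mem ((mem_bnB hF).1 hx)
        ((hF.tsys F).H_le_B ((hF.tsys F).nS_H i ha)))
        ((hF.tsys F).U_le_B ((hF.tsys F).US_posNe_le_U i ((hF.tsys F).nS_conj_posNe i hv).1)), t, ?_⟩
    rw [Subgroup.coe_mul, Subgroup.coe_mul, hye, hs, hF.tsys_x]
    simp only
    group

theorem xG_neg_mem_PG (i : Fin D.rank) (t : F) : xG hF (D.neg (D.simple i.val)) t ∈ PG hF i := by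
  by_cases ht : t = 0
  · subst ht
    rw [xG_zero hF]
    exact one_mem _
  set s : ↥(D.group F) := ⟨(hF.tsys F).nS i, hF.nS_mem_group i⟩ with hs
  have hα := hF.simple_lt i i.isLt
  have hc : -t⁻¹ ≠ 0 := neg_ne_zero.2 (inv_ne_zero ht)
  have hh : hF.hg (D.simple i.val) (-t⁻¹) ∈ (hF.tsys F).B := by
    rw [← hF.tsys_h]
    exact (hF.tsys F).H_le_B ((hF.tsys F).h_mem hα hc)
  have hhG : hF.hg (D.simple i.val) (-t⁻¹) ∈ D.group F := hF.borel_le_group (by rw [← hF.tsys_B]; exact hh)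
  have hx : xG hF (D.simple i.val) t⁻¹ ∈ (hF.bnPair F).B :=
    (mem_bnB hF).2 ((hF.tsys F).U_le_B ((hF.tsys F).x_mem_U (hF.simple_ge i i.isLt) hα _))
  have e : xG hF (D.neg (D.simple i.val)) t =
      xG hF (D.simple i.val) t⁻¹ * ⟨_, hhG⟩ * s * xG hF (D.simple i.val) t⁻¹ := by
    refine Subtype.ext ?_
    show hF.xg _ t = _
    rw [neg_root_eq hF i ht, ng_eq_hg hF _ (-t⁻¹)]
    show _ = hF.xg _ t⁻¹ * hF.hg _ (-t⁻¹) * (hF.tsys F).nS i * hF.xg _ t⁻¹
    rw [hF.tsys_nS]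
    group
  rw [e]
  exact mul_mem (mul_mem (mul_mem (Subgroup.mem_sup_left hx) (Subgroup.mem_sup_left ((mem_bnB hF).2 hh)))
    (Subgroup.mem_sup_right (Subgroup.subset_closure rfl))) (Subgroup.mem_sup_left hx)

/-- A minimal parabolic meets V in the root subgroup of the negative fundamental root. -/
theorem PG_inter_VG {i : Fin D.rank} {g : ↥(D.group F)} (hg : g ∈ PG hF i) (hV : g ∈ VG D F) :
    ∃ t, g = xG hF (D.neg (D.simple i.val)) t := by
  have hα := hF.simple_lt i i.isLt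
  rcases mem_PG hF hg with hB | ⟨b, hb, a, hga⟩
  · exact ⟨0, by rw [xG_zero hF]; exact Subtype.ext (hF.B_inter_V hB hV)⟩
  by_cases ha : a = 0
  · exfalso
    subst ha
    rw [hF.xg_zero, mul_one] at hga
    obtain ⟨u, hu, hue⟩ := (hF.conj_longest (w0_spec hF)).ge hV
    obtain ⟨k, hk, hke⟩ := (hF.tsys F).nS_nW i (w0 hF)
    rw [← hF.tsys_U] at hu
    have h := (hF.tsys F).bruhat_eq hF.hsep (w := hF.wS i * w0 hF) (v := w0 hF)
      (mul_mem hb ((hF.tsys F).H_le_B hk)) (one_mem _) (one_mem _) ((hF.tsys F).U_le_B hu) (by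
        rw [mul_one, one_mul, mul_assoc, ← hke, ← mul_assoc, ← hga]
        rw [show ((g : GL D.Idx F)) = _ from hue.symm]
        show (hF.tsys F).nW (w0 hF) * u * ((hF.tsys F).nW (w0 hF))⁻¹ * (hF.tsys F).nW (w0 hF) = _
        rw [inv_mul_cancel_right])
    have h1 : hF.wS i • hF.refSys.α i = hF.refSys.α i := by rw [mul_eq_right.1 h, one_smul]
    rw [show hF.wS i • hF.refSys.α i = hF.refSys.neg (hF.refSys.α i) from hF.refSys.s_α i] at h1
    exact hF.neg_ne_self hα (congrArg Fin.val h1)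
  · refine ⟨a⁻¹, Subtype.ext ?_⟩
    have hc : -a ≠ 0 := neg_ne_zero.2 ha
    have hh : hF.hg (D.simple i.val) (-a) ∈ (hF.tsys F).B := by
      rw [← hF.tsys_h]
      exact (hF.tsys F).H_le_B ((hF.tsys F).h_mem hα hc)
    have hV' : hF.xg (D.neg (D.simple i.val)) a⁻¹ ∈ D.negUnipotent F :=
      hF.x_mem_negUnipotent (by
        have := hF.neg_eq _ hα; have := hF.simple_ge i i.isLt; have := hF.even; omega) _
    refine (mul_inv_eq_one.1 (hF.B_inter_V (g := (g : GL D.Idx F) * (hF.xg (D.neg (D.simple i.val)) a⁻¹)⁻¹)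
      ?_ (mul_mem hV (inv_mem hV'))) :)
    rw [hga, neg_root_eq hF i (inv_ne_zero ha), inv_inv, ng_eq_hg hF _ (-a), hF.tsys_nS,
      show b * hF.ng (D.simple i.val) 1 * hF.xg (D.simple i.val) a * (hF.xg (D.simple i.val) a *
        (hF.hg (D.simple i.val) (-a) * hF.ng (D.simple i.val) 1) * hF.xg (D.simple i.val) a)⁻¹ =
        b * (hF.hg (D.simple i.val) (-a))⁻¹ * (hF.xg (D.simple i.val) a)⁻¹ by group]
    exact mul_mem (mul_mem hb (inv_mem hh))
      (inv_mem ((hF.tsys F).U_le_B ((hF.tsys F).x_mem_U (hF.simple_ge i i.isLt) hα a)))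

theorem PG_inj {i k : Fin D.rank} (h : PG hF k ≤ PG (F := F) hF i) : k = i := by
  have hk : (⟨(hF.tsys F).nS k, hF.nS_mem_group k⟩ : ↥(D.group F)) ∈ PG hF i :=
    h (Subgroup.mem_sup_right (Subgroup.subset_closure rfl))
  rcases mem_PG hF hk with hB | ⟨b, hb, a, hka⟩
  · exact absurd hB (hF.nS_not_mem_B k)
  obtain ⟨c, hc, hce⟩ := hF.nS_eq_nW (F := F) k
  obtain ⟨d, hd, hde⟩ := hF.nS_eq_nW (F := F) i
  refine hF.wS_inj ((hF.tsys F).bruhat_eq hF.hsep ((hF.tsys F).H_le_B hc) (one_mem _)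
    (mul_mem hb ((hF.tsys F).H_le_B hd))
    ((hF.tsys F).U_le_B ((hF.tsys F).x_mem_U (hF.simple_ge i i.isLt) (hF.simple_lt i i.isLt) a)) ?_)
  rw [hF.tsys_x, mul_one, ← hce, mul_assoc b, ← hde]
  exact hka

theorem PG_ne_B (i : Fin D.rank) : ¬ PG hF i ≤ (hF.bnPair F).B := fun h =>
  nS_not_bnB hF i (h (Subgroup.mem_sup_right (Subgroup.subset_closure rfl)))

/-- A subgroup properly containing B contains a minimal parabolic. -/
theorem exists_PG_le {K : Subgroup ↥(D.group F)} (hK : (hF.bnPair F).B ≤ K)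
    (hne : ¬ K ≤ (hF.bnPair F).B) : ∃ j, PG hF j ≤ K := by
  obtain ⟨g, hgK, hgB⟩ := Set.not_subset.1 hne
  have htop : g ∈ (hF.bnPair F).parabolic (hF.bnPair F).S := by
    rw [Tits.parabolic_S]; exact Subgroup.mem_top g
  obtain ⟨n, hn, hgn⟩ := (Tits.mem_parabolic (P := hF.bnPair F) subset_rfl).1 htop
  have hnN := Tits.closure_le_N (P := hF.bnPair F) subset_rfl hn
  obtain ⟨x, hx, y, hy, hxy⟩ := DoubleCoset.mem_doubleCoset.1 hgn
  have hnK : n ∈ K := by
    rw [show n = x⁻¹ * g * y⁻¹ by rw [hxy]; group]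
    exact mul_mem (mul_mem (inv_mem (hK hx)) hgK) (inv_mem (hK hy))
  have hnB : n ∉ (hF.bnPair F).B := fun h => hgB (by
    rw [hxy]; exact mul_mem (mul_mem hx h) hy)
  obtain ⟨ω, hω, hlen, hc⟩ := Tits.exists_reduced (P := hF.bnPair F) hnN
  cases ω with
  | nil =>
    exact absurd (Tits.H_le_B (P := hF.bnPair F) (by simpa [Tits.Cong] using hc)) hnB
  | cons s τ =>
    have hcH : (s :: τ).prod⁻¹ * n ∈ (hF.bnPair F).B := Tits.H_le_B hc
    have hpK : (s :: τ).prod ∈ K := by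
      rw [show (s :: τ).prod = n * ((s :: τ).prod⁻¹ * n)⁻¹ by group]
      exact mul_mem hnK (inv_mem (hK hcH))
    have hsK := Tits.letters_mem (P := hF.bnPair F) hK (s :: τ) hω
      (by rw [Tits.len_congr hc, hlen]) (fun b hb =>
        mul_mem (mul_mem hpK (hK hb)) (inv_mem hpK)) s List.mem_cons_self
    obtain ⟨j, hj⟩ := hω s List.mem_cons_self
    refine ⟨j, sup_le hK ((Subgroup.closure_le _).2 ?_)⟩
    rintro z rfl
    have hj' : (⟨(hF.tsys F).nS j, hF.nS_mem_group j⟩ : ↥(D.group F)) = s := hj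
    rw [hj']
    exact hsK

variable {θ : MulAut ↥(D.group F)}

include hF in
theorem std_B (hθ : θ ∈ Std D F) {g : ↥(D.group F)} :
    θ g ∈ (hF.bnPair F).B ↔ g ∈ (hF.bnPair F).B := by
  have key : ∀ {φ : MulAut ↥(D.group F)}, φ ∈ Std D F → ∀ {x : ↥(D.group F)},
      x ∈ (hF.bnPair F).B → φ x ∈ (hF.bnPair F).B := by
    intro φ hφ x hx
    refine (mem_bnB hF).2 (mem_B_of_normalizes hF (φ x).2 fun u hu => ?_)
    have h1 : φ.symm ⟨u, UG_le hF hu⟩ ∈ UG D F := by
      refine ((mem_Std.1 hφ).1 _).1 ?_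
      rw [MulEquiv.apply_symm_apply]
      exact hu
    have h2 : x * φ.symm ⟨u, UG_le hF hu⟩ * x⁻¹ ∈ UG D F := B_conj_U hF ((mem_bnB hF).1 hx) h1
    have h3 := ((mem_Std.1 hφ).1 _).2 h2
    rw [map_mul, map_mul, map_inv, MulEquiv.apply_symm_apply] at h3
    exact h3
  refine ⟨fun h => ?_, key hθ⟩
  have := key (inv_mem hθ) h
  rwa [MulAut.inv_def, MulEquiv.symm_apply_apply] at this

theorem exists_PG_image (hθ : θ ∈ Std D F) (i : Fin D.rank) :
    ∃ j, (PG hF i).map θ.toMonoidHom = PG hF j := by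
  have key : ∀ {φ : MulAut ↥(D.group F)}, φ ∈ Std D F → ∀ k : Fin D.rank,
      ∃ j, PG hF j ≤ (PG hF k).map φ.toMonoidHom := by
    intro φ hφ k
    refine exists_PG_le hF (fun x hx => ⟨φ.symm x, le_sup_left (a := (hF.bnPair F).B) ?_,
      φ.apply_symm_apply x⟩) fun h => PG_ne_B hF k fun x hx => (std_B hF hφ).1 (h ⟨x, hx, rfl⟩)
    rw [← std_B hF hφ, MulEquiv.apply_symm_apply]
    exact hx
  obtain ⟨j, hj⟩ := key hθ i
  obtain ⟨k, hk⟩ := key (inv_mem hθ) j
  refine ⟨j, le_antisymm ?_ hj⟩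
  have hki : k = i := PG_inj hF fun x hx => by
    obtain ⟨y, hy, rfl⟩ := hk hx
    obtain ⟨z, hz, rfl⟩ := hj hy
    show θ⁻¹ (θ z) ∈ _
    rwa [MulAut.inv_def, MulEquiv.symm_apply_apply]
  subst hki
  rintro _ ⟨z, hz, rfl⟩
  obtain ⟨y, hy, hye⟩ := hk hz
  rw [← hye]
  show θ (θ⁻¹ y) ∈ _
  rwa [MulAut.inv_def, MulEquiv.apply_symm_apply]

theorem exists_neg_image (hθ : θ ∈ Std D F) (i : Fin D.rank) :
    ∃ j : Fin D.rank, ∀ t : F, ∃ u, θ (xG hF (D.neg (D.simple i.val)) t) =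
      xG hF (D.neg (D.simple j.val)) u := by
  obtain ⟨j, hj⟩ := exists_PG_image hF hθ i
  refine ⟨j, fun t => PG_inter_VG hF (hj ▸ ⟨_, xG_neg_mem_PG hF i t, rfl⟩) (((mem_Std.1 hθ).2 _).2 ?_)⟩
  have h1 := hF.neg_eq _ (hF.simple_lt i i.isLt)
  have h2 := hF.simple_ge i i.isLt
  have h3 := hF.even
  exact hF.x_mem_negUnipotent (by have := hF.simple_lt i i.isLt; omega) t

theorem w0_simple (i : Fin D.rank) :
    ∃ k : Fin D.rank, w0 hF • hF.refSys.neg (hF.refSys.α i) = hF.refSys.α k := by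
  set r := w0 hF • hF.refSys.neg (hF.refSys.α i) with hr
  have hww : ∀ x : Fin D.nroots, w0 hF • w0 hF • x = x := fun x => by
    conv_lhs => arg 1; rw [← w0_inv hF]
    exact inv_smul_smul _ x
  have hinv : hF.refSys.inv (w0 hF * hF.refSys.s i * w0 hF) = {r} := by
    ext x
    rw [RefSystem.mem_inv, Finset.mem_singleton, mul_smul, mul_smul]
    constructor
    · rintro ⟨hx, hx'⟩
      by_contra hne
      have hy := w0_spec hF x hx
      have h1 : hF.refSys.neg (w0 hF • x) ≠ hF.refSys.α i := fun h => hne (by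
        rw [hr, ← h, hF.refSys.neg_neg, hww])
      have h2 := hF.refSys.perm i _ ((hF.refSys.neg_mem _).2 hy) h1
      rw [hF.refSys.s_neg, hF.refSys.neg_mem] at h2
      exact hx' (w0_neg hF h2)
    · rintro rfl
      refine ⟨w0_neg hF fun h => (hF.refSys.neg_mem _).1 h (hF.refSys.α_mem i), ?_⟩
      rw [hr, hww, hF.refSys.s_neg, hF.refSys.s_α, hF.refSys.neg_neg]
      exact w0_spec hF _ (hF.refSys.α_mem i)
  obtain ⟨ω, hω, hlen⟩ := hF.refSys.exists_reduced (w0 hF * hF.refSys.s i * w0 hF)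
  rw [RefSystem.len, hinv, Finset.card_singleton] at hlen
  obtain ⟨k, rfl⟩ := List.length_eq_one_iff.1 hlen
  rw [RefSystem.pr_singleton] at hω
  refine ⟨k, ?_⟩
  have hk : hF.refSys.α k ∈ hF.refSys.inv (hF.refSys.s k) := by
    refine (RefSystem.mem_inv _).2 ⟨hF.refSys.α_mem k, ?_⟩
    rw [hF.refSys.s_α, hF.refSys.neg_mem]
    exact not_not_intro (hF.refSys.α_mem k)
  rw [hω, hinv, Finset.mem_singleton] at hk
  exact hk.symm

theorem exists_pos_image (hθ : θ ∈ Std D F) (k : Fin D.rank) :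
    ∃ j : Fin D.rank, ∀ t : F, ∃ u, θ (xG hF (D.simple k.val) t) = xG hF (D.simple j.val) u := by
  set n0 : ↥(D.group F) := ⟨(hF.tsys F).nW (w0 hF), hF.nW_mem_group _⟩ with hn0
  set c := MulAut.conj n0 with hc
  have hcU : ∀ g, c g ∈ UG D F ↔ g ∈ VG D F := by
    refine fun g => ⟨fun h => ?_, fun h => n0_V hF h⟩
    have h1 := n0_U_inv hF h
    simpa [mem_VG, hc, hn0, mul_assoc] using h1
  have hcV : ∀ g, c g ∈ VG D F ↔ g ∈ UG D F := by
    refine fun g => ⟨fun h => ?_, fun h => n0_U hF h⟩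
    obtain ⟨u, hu, hue⟩ := (hF.conj_longest (w0_spec hF)).ge h
    have : u = (g : GL D.Idx F) := (MulAut.conj _).injective hue
    rw [this] at hu
    exact hu
  have hθ' : c⁻¹ * θ * c ∈ Std D F := by
    refine mem_Std.2 ⟨fun g => ?_, fun g => ?_⟩ <;>
      simp only [MulAut.mul_apply, MulAut.inv_def]
    · rw [← hcV, MulEquiv.apply_symm_apply, (mem_Std.1 hθ).2, hcV]
    · rw [← hcU, MulEquiv.apply_symm_apply, (mem_Std.1 hθ).1, hcU]
  obtain ⟨i, hi⟩ := w0_simple hF k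
  have hik : w0 hF • hF.refSys.neg (hF.refSys.α i) = hF.refSys.α k := by
    rw [← hi, RefSystem.smul_neg, RefSystem.smul_neg, RefSystem.smul_neg, hF.refSys.neg_neg]
    conv_lhs => arg 1; rw [← w0_inv hF]
    exact inv_smul_smul _ _
  obtain ⟨j, hj⟩ := exists_neg_image hF hθ' i
  obtain ⟨m, hm⟩ := w0_simple hF j
  refine ⟨m, fun t => ?_⟩
  obtain ⟨e, he, heq⟩ := hF.nW_conj (F := F) (w0 hF) (hF.refSys.neg (hF.refSys.α i))
  obtain ⟨e', -, heq'⟩ := hF.nW_conj (F := F) (w0 hF) (hF.refSys.neg (hF.refSys.α j))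
  rw [hik] at heq
  rw [hm] at heq'
  obtain ⟨u, hu⟩ := hj (e * t)
  have h1 : xG hF (D.simple k.val) t = c (xG hF (D.neg (D.simple i.val)) (e * t)) := by
    refine Subtype.ext ?_
    have := heq (e * t)
    rw [← mul_assoc, he, one_mul] at this
    exact this.symm
  refine ⟨e' * u, ?_⟩
  rw [h1]
  simp only [MulAut.mul_apply, MulAut.inv_def] at hu
  rw [← c.apply_symm_apply (θ (c _)), hu]
  exact Subtype.ext (heq' u)

/-- Root elements for α_i and -α_j commute for distinct nodes, given the table check. -/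
theorem commute_pm {i j : Fin D.rank} (hij : i ≠ j)
    (h : D.commTerms (D.neg (D.simple i.val)) (D.simple j.val) = []) (t u : F) :
    Commute (hF.xg (D.neg (D.simple i.val)) t) (hF.xg (D.simple j.val) u) := by
  have hi := hF.simple_lt i i.isLt
  have hj := hF.simple_lt j j.isLt
  have := (hF.tsys F).x_comm (D.neg (D.simple i.val)) (D.simple j.val) (hF.neg_lt hi) hj
    (simple_ne_neg hF j i) (fun h' => hij (simple_inj hF (h'.trans (hF.neg_neg hi))).symm) t u
  simp only [ChevalleyDatum.commWord, h, List.map_nil, List.prod_nil, mul_one] at this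
  exact this.symm

/-- The permutation of the nodes and the maps of parameters. -/
theorem exists_maps
    (hpm : ∀ i j : Fin D.rank, i ≠ j → D.commTerms (D.neg (D.simple i.val)) (D.simple j.val) = [])
    (hθ : θ ∈ Std D F) :
    ∃ (π : Equiv.Perm (Fin D.rank)) (f g : Fin D.rank → F → F), ∀ i t,
      θ (xG hF (D.simple i.val) t) = xG hF (D.simple (π i).val) (f i t) ∧
      θ (xG hF (D.neg (D.simple i.val)) t) = xG hF (D.neg (D.simple (π i).val)) (g i t) := by
  have main : ∀ {φ : MulAut ↥(D.group F)}, φ ∈ Std D F → ∀ i : Fin D.rank,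
      ∃ j : Fin D.rank, (∀ t, ∃ u, φ (xG hF (D.simple i.val) t) = xG hF (D.simple j.val) u) ∧
        ∀ t, ∃ u, φ (xG hF (D.neg (D.simple i.val)) t) = xG hF (D.neg (D.simple j.val)) u := by
    intro φ hφ i
    obtain ⟨j, hj⟩ := exists_neg_image hF hφ i
    obtain ⟨j', hj'⟩ := exists_pos_image hF hφ i
    obtain rfl | hne := eq_or_ne j j'
    · exact ⟨j, hj', hj⟩
    · exfalso
      obtain ⟨u, hu⟩ := hj 1
      obtain ⟨v, hv⟩ := hj' 1
      have hcom : Commute (xG hF (D.neg (D.simple j.val)) u) (xG hF (D.simple j'.val) v) :=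
        Subtype.ext (commute_pm hF hne (hpm j j' hne) u v)
      rw [← hu, ← hv] at hcom
      have h1 := φ.injective ((map_mul φ _ _).trans (hcom.eq.trans (map_mul φ _ _).symm))
      exact not_commute hF i one_ne_zero (congrArg Subtype.val h1).symm
  choose π f hf g hg using fun i => (main hθ i).imp fun j h =>
    (⟨fun t => (h.1 t).choose, fun t => (h.1 t).choose_spec,
      fun t => (h.2 t).choose, fun t => (h.2 t).choose_spec⟩ :
      ∃ f : F → F, (∀ t, θ (xG hF (D.simple i.val) t) = xG hF (D.simple j.val) (f t)) ∧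
        ∃ g : F → F, ∀ t, θ (xG hF (D.neg (D.simple i.val)) t) = xG hF (D.neg (D.simple j.val)) (g t))
  choose π' hπ' _ using main (inv_mem hθ)
  have hleft : ∀ i, π' (π i) = i := by
    intro i
    obtain ⟨u, hu⟩ := hπ' (π i) (f i 1)
    rw [← hf i 1, MulAut.inv_def, MulEquiv.symm_apply_apply] at hu
    exact (simple_inj hF (xG_root_inj hF (hF.simple_lt i i.isLt) (hF.simple_lt _ (π' (π i)).isLt)
      one_ne_zero hu)).symm
  exact ⟨Equiv.ofBijective π (Finite.injective_iff_bijective.1 (Function.LeftInverse.injective hleft)),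
    f, g, fun i t => ⟨hf i t, hg i t⟩⟩

end Cfsg.Agent.Small.ChevAut
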